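import Mathlib
import Cfsg.Agent.GHFour.Disp
import Cfsg.Agent.S0031
import Cfsg.Agent.S3939
import Cfsg.Agent.PCore.AxB

/-!
Invariant subgroups for a fixed-point-free automorphism of order four.
-/

set_option autoImplicit false
set_option linter.unusedSectionVars false

namespace CfsgLib.GHFour

variable {L : Type*} [Group L]

/-- Invariance of a subgroup. -/
def Inv (σ : MulAut L) (X : Subgroup L) : Prop := ∀ x ∈ X, σ x ∈ X

/-- The subgroup generated by the displacements of the square of `σ`. -/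
def disp (σ : MulAut L) (X : Subgroup L) : Subgroup L :=
  Subgroup.closure ((fun x => x⁻¹ * σ (σ x)) '' (X : Set L))

/-- The fixed points of the square of `σ`. -/
def Fixed (σ : MulAut L) : Subgroup L where
  carrier := {x | σ (σ x) = x}
  one_mem' := by simp
  mul_mem' := fun {a b} (ha : σ (σ a) = a) (hb : σ (σ b) = b) => by simp [ha, hb]
  inv_mem' := fun {a} (ha : σ (σ a) = a) => by simp [ha]

theorem mem_fixed {σ : MulAut L} {x : L} : x ∈ Fixed σ ↔ σ (σ x) = x := Iff.rfl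

/-- Commuting subgroups. -/
def Cmt (U S : Subgroup L) : Prop := ∀ u ∈ U, ∀ s ∈ S, u * s = s * u

theorem Cmt.symm {U S : Subgroup L} (h : Cmt U S) : Cmt S U := fun s hs u hu => (h u hu s hs).symm

theorem Cmt.mono {U S U' S' : Subgroup L} (h : Cmt U S) (hU : U' ≤ U) (hS : S' ≤ S) : Cmt U' S' :=
  fun u hu s hs => h u (hU hu) s (hS hs)

theorem Cmt.le_centralizer {U S : Subgroup L} (h : Cmt U S) : U ≤ Subgroup.centralizer (S : Set L) :=
  fun u hu => Subgroup.mem_centralizer_iff.2 fun s hs => (h u hu s hs).symm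

theorem cmt_of_le_centralizer {U S : Subgroup L} (h : U ≤ Subgroup.centralizer (S : Set L)) : Cmt U S :=
  fun _ hu s hs => (Subgroup.mem_centralizer_iff.1 (h hu) s hs).symm

variable [Finite L] {σ : MulAut L}

theorem Inv.symm_mem {X : Subgroup L} (h : Inv σ X) {x : L} (hx : σ x ∈ X) : x ∈ X := by
  let f : X → X := fun y => ⟨σ y, h y y.2⟩
  have hf : Function.Injective f := fun a b e => Subtype.ext (σ.injective (congrArg Subtype.val e))
  obtain ⟨y, hy⟩ := Finite.injective_iff_surjective.1 hf ⟨σ x, hx⟩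
  rw [← σ.injective (congrArg Subtype.val hy)]
  exact y.2

theorem Inv.map_eq {X : Subgroup L} (h : Inv σ X) : X.map σ.toMonoidHom = X := by
  ext x
  constructor
  · rintro ⟨y, hy, rfl⟩; exact h y hy
  · intro hx
    obtain ⟨y, rfl⟩ := σ.surjective x
    exact ⟨y, h.symm_mem hx, rfl⟩

theorem inv_of_map_le {X : Subgroup L} (h : X.map σ.toMonoidHom ≤ X) : Inv σ X :=
  fun x hx => h ⟨x, hx, rfl⟩

theorem inv_inf {X Y : Subgroup L} (hX : Inv σ X) (hY : Inv σ Y) : Inv σ (X ⊓ Y) :=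
  fun x hx => ⟨hX x hx.1, hY x hx.2⟩

theorem inv_sup {X Y : Subgroup L} (hX : Inv σ X) (hY : Inv σ Y) : Inv σ (X ⊔ Y) :=
  inv_of_map_le (by rw [Subgroup.map_sup, hX.map_eq, hY.map_eq])

theorem inv_fixed : Inv σ (Fixed σ) := fun x hx => congrArg σ (mem_fixed.1 hx)

theorem inv_top : Inv σ (⊤ : Subgroup L) := fun _ _ => Subgroup.mem_top _

theorem inv_normalizer {X : Subgroup L} (hX : Inv σ X) : Inv σ (Subgroup.normalizer (X : Set L)) := by
  intro g hg
  rw [Subgroup.mem_normalizer_iff] at hg ⊢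
  intro h
  obtain ⟨k, rfl⟩ := σ.surjective h
  rw [← map_inv σ, ← map_mul, ← map_mul]
  exact ⟨fun hk => hX _ ((hg k).1 (hX.symm_mem hk)), fun hk => hX _ ((hg k).2 (hX.symm_mem hk))⟩

theorem inv_centralizer {X : Subgroup L} (hX : Inv σ X) : Inv σ (Subgroup.centralizer (X : Set L)) := by
  intro g hg
  rw [Subgroup.mem_centralizer_iff] at hg ⊢
  intro h hh
  obtain ⟨k, rfl⟩ := σ.surjective h
  rw [← map_mul, ← map_mul, hg k (hX.symm_mem hh)]

theorem inv_centralizer_singleton (hf : ∀ x, σ x = x → x = 1) {a : L} (ha : a ∈ Fixed σ) :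
    Inv σ (Subgroup.centralizer ({a} : Set L)) := by
  intro g hg
  rw [Subgroup.mem_centralizer_singleton_iff] at hg ⊢
  have h1 := congrArg σ (show g * a⁻¹ = a⁻¹ * g from (Commute.inv_right (show Commute g a from hg)).eq)
  rw [map_mul, map_mul, map_inv, CfsgLib.FpfFour.map_eq_inv σ hf (mem_fixed.1 ha), inv_inv] at h1
  exact h1

theorem inv_zpowers (hf : ∀ x, σ x = x → x = 1) {a : L} (ha : a ∈ Fixed σ) : Inv σ (Subgroup.zpowers a) := by
  intro g hg
  obtain ⟨i, rfl⟩ := Subgroup.mem_zpowers_iff.1 hg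
  rw [map_zpow, CfsgLib.FpfFour.map_eq_inv σ hf (mem_fixed.1 ha), inv_zpow, ← zpow_neg]
  exact zpow_mem (Subgroup.mem_zpowers a) _

theorem fixed_comm (hf : ∀ x, σ x = x → x = 1) {a b : L} (ha : a ∈ Fixed σ) (hb : b ∈ Fixed σ) :
    a * b = b * a := by
  have h1 := CfsgLib.FpfFour.map_eq_inv σ hf (mem_fixed.1 (mul_mem ha hb))
  rw [map_mul, CfsgLib.FpfFour.map_eq_inv σ hf (mem_fixed.1 ha), CfsgLib.FpfFour.map_eq_inv σ hf (mem_fixed.1 hb),
    mul_inv_rev] at h1
  simpa using (congrArg (·⁻¹) h1).symm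

theorem disp_le {X : Subgroup L} (hX : Inv σ X) : disp σ X ≤ X := by
  refine (Subgroup.closure_le _).2 ?_
  rintro _ ⟨x, hx, rfl⟩
  exact mul_mem (inv_mem hx) (hX _ (hX _ hx))

theorem mem_disp {X : Subgroup L} {x : L} (hx : x ∈ X) : x⁻¹ * σ (σ x) ∈ disp σ X :=
  Subgroup.subset_closure ⟨x, hx, rfl⟩

theorem disp_mono {X Y : Subgroup L} (h : X ≤ Y) : disp σ X ≤ disp σ Y :=
  Subgroup.closure_mono (Set.image_mono h)

theorem inv_disp {X : Subgroup L} (hX : Inv σ X) : Inv σ (disp σ X) := by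
  refine inv_of_map_le ?_
  rw [disp, MonoidHom.map_closure]
  refine Subgroup.closure_mono ?_
  rintro _ ⟨_, ⟨x, hx, rfl⟩, rfl⟩
  exact ⟨σ x, hX x hx, by simp [map_mul, map_inv]⟩

theorem disp_normalized {X : Subgroup L} : X ≤ Subgroup.normalizer (disp σ X : Set L) := by
  intro y hy
  have key : ∀ y ∈ X, (disp σ X).map (MulAut.conj y).toMonoidHom ≤ disp σ X := by
    intro y hy
    rw [disp, MonoidHom.map_closure, Subgroup.closure_le]
    rintro _ ⟨_, ⟨x, hx, rfl⟩, rfl⟩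
    have h1 := mem_disp (σ := σ) (mul_mem hx (inv_mem hy))
    have h2 := mem_disp (σ := σ) (inv_mem hy)
    have h3 := mul_mem h1 (inv_mem h2)
    have e : y * (x⁻¹ * σ (σ x)) * y⁻¹ =
        (x * y⁻¹)⁻¹ * σ (σ (x * y⁻¹)) * ((y⁻¹)⁻¹ * σ (σ y⁻¹))⁻¹ := by
      simp only [map_mul, map_inv]; group
    change y * (x⁻¹ * σ (σ x)) * y⁻¹ ∈ disp σ X
    rw [e]
    exact h3
  rw [Subgroup.mem_normalizer_iff]
  intro n
  constructor
  · exact fun hn => key y hy ⟨n, hn, rfl⟩
  · intro hn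
    have := key y⁻¹ (inv_mem hy) ⟨_, hn, rfl⟩
    simpa [mul_assoc] using this

theorem disp_normalized_fixed {X : Subgroup L} {a : L} (ha : a ∈ Fixed σ)
    (haX : a ∈ Subgroup.normalizer (X : Set L)) : a ∈ Subgroup.normalizer (disp σ X : Set L) := by
  have key : ∀ a ∈ Fixed σ, (∀ x ∈ X, a * x * a⁻¹ ∈ X) →
      (disp σ X).map (MulAut.conj a).toMonoidHom ≤ disp σ X := by
    intro a ha hax
    rw [disp, MonoidHom.map_closure, Subgroup.closure_le]
    rintro _ ⟨_, ⟨x, hx, rfl⟩, rfl⟩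
    have e : a * (x⁻¹ * σ (σ x)) * a⁻¹ = (a * x * a⁻¹)⁻¹ * σ (σ (a * x * a⁻¹)) := by
      simp only [map_mul, map_inv, mem_fixed.1 ha]; group
    change a * (x⁻¹ * σ (σ x)) * a⁻¹ ∈ disp σ X
    rw [e]
    exact mem_disp (hax x hx)
  rw [Subgroup.mem_normalizer_iff]
  intro n
  constructor
  · exact fun hn => key a ha (fun x hx => (Subgroup.mem_normalizer_iff.1 haX x).1 hx) ⟨n, hn, rfl⟩
  · intro hn
    have := key a⁻¹ (inv_mem ha) (fun x hx => (Subgroup.mem_normalizer_iff.1 (inv_mem haX) x).1 hx) ⟨_, hn, rfl⟩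
    simpa [mul_assoc] using this

variable (h4 : σ ^ 4 = 1) (hf : ∀ x, σ x = x → x = 1)
include h4 hf

/-- An invariant subgroup is the product of its displacements and its fixed points. -/
theorem exists_factor {X : Subgroup L} (hX : Inv σ X) {x : L} (hx : x ∈ X) :
    ∃ d ∈ disp σ X, ∃ a ∈ X, a ∈ Fixed σ ∧ x = d * a := by
  have hodd := CfsgLib.FpfFour.odd_card σ h4 hf
  have hττ : ∀ y, σ (σ (σ (σ y))) = y := fun y => DFunLike.congr_fun h4 y
  set u := σ (σ x) * x⁻¹ with hu_def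
  have hu : u ∈ disp σ X := by
    have := (Subgroup.mem_normalizer_iff.1 (disp_normalized (σ := σ) hx) _).1 (mem_disp (σ := σ) hx)
    rwa [show x * (x⁻¹ * σ (σ x)) * x⁻¹ = u by rw [hu_def]; group] at this
  obtain ⟨k, hk⟩ := exists_pow_eq_self_of_coprime (x := u) (n := 2)
    (Nat.coprime_two_left.2 (Odd.of_dvd_nat hodd (orderOf_dvd_natCard u)))
  set w := u ^ k with hw
  have hw2 : w * w = u := by rw [← pow_two, hw, ← pow_mul, mul_comm, pow_mul, hk]
  have hwD : w ∈ disp σ X := pow_mem hu k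
  have hτw : σ (σ w) = w⁻¹ := by
    rw [hw, map_pow, map_pow, hu_def, map_mul, map_mul, map_inv, map_inv, hττ, ← inv_pow, mul_inv_rev, inv_inv]
  refine ⟨w⁻¹, inv_mem hwD, w * x, mul_mem (disp_le hX hwD) hx, ?_, (inv_mul_cancel_left _ _).symm⟩
  rw [mem_fixed, map_mul, map_mul, hτw, show σ (σ x) = u * x by rw [hu_def, inv_mul_cancel_right], ← hw2]
  group

theorem disp_disp {X : Subgroup L} (hX : Inv σ X) : disp σ (disp σ X) = disp σ X := by
  refine le_antisymm (disp_le (inv_disp hX)) ?_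
  refine (Subgroup.closure_le _).2 ?_
  rintro _ ⟨x, hx, rfl⟩
  obtain ⟨d, hd, a, haX, ha, rfl⟩ := exists_factor h4 hf hX hx
  have e : (d * a)⁻¹ * σ (σ (d * a)) = a⁻¹ * (d⁻¹ * σ (σ d)) * a⁻¹⁻¹ := by
    simp only [map_mul, mem_fixed.1 ha]; group
  change (d * a)⁻¹ * σ (σ (d * a)) ∈ disp σ (disp σ X)
  rw [e]
  exact (Subgroup.mem_normalizer_iff.1 (disp_normalized_fixed (inv_mem ha) (disp_normalized (inv_mem haX))) _).1
    (mem_disp hd)

theorem disp_nilpotent {X : Subgroup L} (hX : Inv σ X) (hsol : Group.IsSolvable X) :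
    Group.IsNilpotent ↥(disp σ X) := by
  let σX : MulAut X :=
    { toFun := fun x => ⟨σ (x : L), hX x x.2⟩
      invFun := fun x => ⟨σ.symm (x : L), hX.symm_mem (by rw [MulEquiv.apply_symm_apply]; exact x.2)⟩
      left_inv := fun x => Subtype.ext (σ.symm_apply_apply (x : L))
      right_inv := fun x => Subtype.ext (σ.apply_symm_apply (x : L))
      map_mul' := fun x y => Subtype.ext (map_mul σ (x : L) y) }
  have h := nilpotent_disp hsol σX (MulEquiv.ext fun x => Subtype.ext (DFunLike.congr_fun h4 (x : L)))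
    (fun x hx => Subtype.ext (hf x (congrArg Subtype.val hx)))
  have e : (Subgroup.closure (Set.range fun x : X => x⁻¹ * σX (σX x))).map X.subtype = disp σ X := by
    rw [MonoidHom.map_closure, disp]
    congr 1
    ext y
    constructor
    · rintro ⟨_, ⟨x, rfl⟩, rfl⟩; exact ⟨x, x.2, rfl⟩
    · rintro ⟨x, hx, rfl⟩; exact ⟨_, ⟨⟨x, hx⟩, rfl⟩, rfl⟩
  rw [← e]
  haveI := h
  exact Group.nilpotent_of_mulEquiv
    ((Subgroup.closure (Set.range fun x : X => x⁻¹ * σX (σX x))).equivMapOfInjective _ X.subtype_injective)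

/-- An invariant `p`-subgroup lies in an invariant Sylow subgroup. -/
theorem exists_invariant_sylow_ge {p : ℕ} [Fact p.Prime] {R : Subgroup L} (hR : IsPGroup p R) (hRi : Inv σ R) :
    ∃ P : Sylow p L, Inv σ (P : Subgroup L) ∧ R ≤ P := by
  obtain ⟨M, hM⟩ := Set.Finite.exists_maximal (s := {M : Subgroup L | IsPGroup p M ∧ Inv σ M ∧ R ≤ M})
    (Set.toFinite _) ⟨R, hR, hRi, le_rfl⟩
  obtain ⟨hMp, hMi, hRM⟩ := hM.prop
  set N := Subgroup.normalizer (M : Set L) with hN
  have hNi : Inv σ N := inv_normalizer hMi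
  let σN : N ≃* N :=
    { toFun := fun x => ⟨σ (x : L), hNi x x.2⟩
      invFun := fun x => ⟨σ.symm (x : L), hNi.symm_mem (by rw [MulEquiv.apply_symm_apply]; exact x.2)⟩
      left_inv := fun x => Subtype.ext (σ.symm_apply_apply (x : L))
      right_inv := fun x => Subtype.ext (σ.apply_symm_apply (x : L))
      map_mul' := fun x y => Subtype.ext (map_mul σ (x : L) y) }
  obtain ⟨Q, hQ⟩ := Cfsg.Agent.S0031.result σN (fun x hx => Subtype.ext (hf x (congrArg Subtype.val hx))) p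
  have hMQ : M.subgroupOf N ≤ Q := by
    haveI : (M.subgroupOf N).Normal := Subgroup.normal_in_normalizer
    exact (CfsgLib.PCore.le_pCore inferInstance
      (hMp.of_equiv (Subgroup.subgroupOfEquivOfLe Subgroup.le_normalizer).symm)).trans (CfsgLib.PCore.pCore_le_sylow Q)
  set Q' := (Q : Subgroup N).map N.subtype with hQ'
  have hQi : Inv σ Q' := by
    rintro _ ⟨x, hx, rfl⟩
    exact ⟨σN x, hQ.le ⟨x, hx, rfl⟩, rfl⟩
  have hMQ' : M ≤ Q' := fun x hx => ⟨⟨x, Subgroup.le_normalizer hx⟩, hMQ hx, rfl⟩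
  have hQM : Q' = M := le_antisymm (hM.2 ⟨Q.isPGroup'.map _, hQi, hRM.trans hMQ'⟩ hMQ') hMQ'
  obtain ⟨P, hMP⟩ := hMp.exists_le_sylow
  refine ⟨P, ?_, hRM.trans hMP⟩
  suffices h : (P : Subgroup L) = M by rw [h]; exact hMi
  by_contra hne
  have hlt : M < P := lt_of_le_of_ne hMP (Ne.symm hne)
  haveI : Group.IsNilpotent ↥(P : Subgroup L) := P.isPGroup'.isNilpotent
  have h2 := Group.normalizerCondition_of_isNilpotent (M.subgroupOf (P : Subgroup L))
    (lt_top_iff_ne_top.2 fun h => hlt.not_ge (Subgroup.subgroupOf_eq_top.1 h))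
  obtain ⟨y, hy, hyM⟩ := SetLike.exists_of_lt h2
  have hyN : (y : L) ∈ N := by
    rw [hN, Subgroup.mem_normalizer_iff]
    intro z
    constructor
    · exact fun hz => ((Subgroup.mem_normalizer_iff.1 hy) ⟨z, hlt.le hz⟩).1 hz
    · intro hz
      have hzP : z ∈ (P : Subgroup L) := by
        have := mul_mem (mul_mem (inv_mem y.2) (hlt.le hz)) y.2
        simpa [mul_assoc] using this
      exact ((Subgroup.mem_normalizer_iff.1 hy) ⟨z, hzP⟩).2 hz
  -- a larger `p`-subgroup of `N`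
  have hRp : IsPGroup p ((((P : Subgroup L) ⊓ N).subgroupOf N)) :=
    (P.isPGroup'.to_le inf_le_left).of_equiv (Subgroup.subgroupOfEquivOfLe inf_le_right).symm
  obtain ⟨Q₂, hQ₂⟩ := hRp.exists_le_sylow
  have hcard : Nat.card M < Nat.card (Q₂ : Subgroup N) := by
    have h1 : M < (P : Subgroup L) ⊓ N := lt_of_le_of_ne (le_inf hMP Subgroup.le_normalizer) fun e =>
      hyM (e.ge ⟨y.2, hyN⟩)
    calc Nat.card M < Nat.card ↥((P : Subgroup L) ⊓ N) := by
          refine lt_of_le_of_ne (Subgroup.card_le_of_le h1.le) fun e => h1.ne ?_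
          exact Subgroup.eq_of_le_of_card_ge h1.le e.ge
      _ = Nat.card ↥(((P : Subgroup L) ⊓ N).subgroupOf N) :=
          (Nat.card_congr (Subgroup.subgroupOfEquivOfLe inf_le_right).toEquiv).symm
      _ ≤ _ := Subgroup.card_le_of_le hQ₂
  have : Nat.card (Q₂ : Subgroup N) = Nat.card M := by
    rw [Q₂.card_eq_multiplicity, ← Q.card_eq_multiplicity, ← hQM, hQ',
      Subgroup.card_map_of_injective N.subtype_injective]
  omega

/-- The invariant Sylow subgroup is unique. -/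
theorem invariant_sylow_unique {p : ℕ} [Fact p.Prime] {P Q : Sylow p L} (hP : Inv σ (P : Subgroup L))
    (hQ : Inv σ (Q : Subgroup L)) : P = Q := by
  obtain ⟨g, hg⟩ := MulAction.exists_smul_eq L P Q
  have hmemQ : ∀ x, x ∈ (Q : Subgroup L) ↔ g⁻¹ * x * g ∈ (P : Subgroup L) := by
    intro x
    rw [← hg, Sylow.coe_subgroup_smul, CfsgLib.CoprimeAction.mem_conj_smul]
  have hn : g⁻¹ * σ g ∈ Subgroup.normalizer ((P : Subgroup L) : Set L) := by
    have hn' : ∀ y ∈ (P : Subgroup L), g⁻¹ * σ g * y * (g⁻¹ * σ g)⁻¹ ∈ (P : Subgroup L) := by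
      intro y hy
      obtain ⟨z, rfl⟩ := σ.surjective y
      have h1 : g * z * g⁻¹ ∈ (Q : Subgroup L) := (hmemQ _).2 (by
        rw [show g⁻¹ * (g * z * g⁻¹) * g = z by group]; exact hP.symm_mem hy)
      have h2 := (hmemQ _).1 (hQ _ h1)
      rw [map_mul, map_mul, map_inv] at h2
      rwa [show g⁻¹ * σ g * σ z * (g⁻¹ * σ g)⁻¹ = g⁻¹ * (σ g * σ z * (σ g)⁻¹) * g by group]
    refine Subgroup.mem_normalizer_iff.2 fun y => ⟨hn' y, fun hy => ?_⟩
    let F : ↥(P : Subgroup L) → ↥(P : Subgroup L) := fun z => ⟨_, hn' z z.2⟩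
    have hF : Function.Injective F := fun a b e => Subtype.ext (by
      have := congrArg Subtype.val e
      simpa [F] using this)
    obtain ⟨z, hz⟩ := Finite.injective_iff_surjective.1 hF ⟨_, hy⟩
    have := congrArg Subtype.val hz
    simp only [F] at this
    rw [← mul_left_cancel (mul_right_cancel this)]
    exact z.2
  obtain ⟨x, hx, e⟩ := CfsgLib.FpfFour.exists_inv_mul_eq σ (Subgroup.normalizer ((P : Subgroup L) : Set L))
    (inv_normalizer hP) (fun x _ => hf x) hn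
  have hfix : σ (g * x⁻¹) = g * x⁻¹ := by
    rw [map_mul, map_inv, mul_inv_eq_iff_eq_mul, mul_assoc, e, mul_inv_cancel_left]
  rw [← hg, mul_inv_eq_one.1 (hf _ hfix)]
  exact (Sylow.smul_eq_iff_mem_normalizer.2 hx).symm

omit h4 hf

/-- The elements of `D` of `p`-power order. -/
def pPart (p : ℕ) (D : Subgroup L) : Subgroup L :=
  Subgroup.closure {x | x ∈ D ∧ ∃ k, orderOf x = p ^ k}

/-- The elements of `D` of order prime to `p`. -/
def cPart (p : ℕ) (D : Subgroup L) : Subgroup L :=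
  Subgroup.closure {x | x ∈ D ∧ (orderOf x).Coprime p}

theorem pPart_le {p : ℕ} {D : Subgroup L} : pPart p D ≤ D := (Subgroup.closure_le _).2 fun _ h => h.1

theorem cPart_le {p : ℕ} {D : Subgroup L} : cPart p D ≤ D := (Subgroup.closure_le _).2 fun _ h => h.1

theorem inv_pPart {p : ℕ} {D : Subgroup L} (hD : Inv σ D) : Inv σ (pPart p D) := by
  refine inv_of_map_le ?_
  rw [pPart, MonoidHom.map_closure]
  refine Subgroup.closure_mono ?_
  rintro _ ⟨x, ⟨hx, k, hk⟩, rfl⟩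
  exact ⟨hD x hx, k, by rw [← hk]; exact orderOf_injective σ.toMonoidHom σ.injective x⟩

theorem inv_cPart {p : ℕ} {D : Subgroup L} (hD : Inv σ D) : Inv σ (cPart p D) := by
  refine inv_of_map_le ?_
  rw [cPart, MonoidHom.map_closure]
  refine Subgroup.closure_mono ?_
  rintro _ ⟨x, ⟨hx, hk⟩, rfl⟩
  exact ⟨hD x hx, by rwa [show orderOf (σ.toMonoidHom x) = orderOf x from orderOf_injective σ.toMonoidHom σ.injective x]⟩

theorem normalizer_le_pPart {p : ℕ} {D : Subgroup L} :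
    Subgroup.normalizer (D : Set L) ≤ Subgroup.normalizer (pPart p D : Set L) := by
  have key : ∀ g ∈ Subgroup.normalizer (D : Set L), ∀ x ∈ pPart p D, g * x * g⁻¹ ∈ pPart p D := by
    intro g hg x hx
    have : (pPart p D).map (MulAut.conj g).toMonoidHom ≤ pPart p D := by
      rw [pPart, MonoidHom.map_closure]
      refine Subgroup.closure_mono ?_
      rintro _ ⟨y, ⟨hy, k, hk⟩, rfl⟩
      exact ⟨(Subgroup.mem_normalizer_iff.1 hg y).1 hy, k, by
        rw [← hk]; exact orderOf_injective (MulAut.conj g).toMonoidHom (MulAut.conj g).injective y⟩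
    exact this ⟨x, hx, rfl⟩
  intro g hg
  rw [Subgroup.mem_normalizer_iff]
  refine fun x => ⟨key g hg x, fun hx => ?_⟩
  have := key g⁻¹ (inv_mem hg) _ hx
  simpa [mul_assoc] using this

theorem normalizer_le_cPart {p : ℕ} {D : Subgroup L} :
    Subgroup.normalizer (D : Set L) ≤ Subgroup.normalizer (cPart p D : Set L) := by
  have key : ∀ g ∈ Subgroup.normalizer (D : Set L), ∀ x ∈ cPart p D, g * x * g⁻¹ ∈ cPart p D := by
    intro g hg x hx
    have : (cPart p D).map (MulAut.conj g).toMonoidHom ≤ cPart p D := by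
      rw [cPart, MonoidHom.map_closure]
      refine Subgroup.closure_mono ?_
      rintro _ ⟨y, ⟨hy, hk⟩, rfl⟩
      exact ⟨(Subgroup.mem_normalizer_iff.1 hg y).1 hy, by
        rwa [show orderOf ((MulAut.conj g).toMonoidHom y) = orderOf y from
          orderOf_injective (MulAut.conj g).toMonoidHom (MulAut.conj g).injective y]⟩
    exact this ⟨x, hx, rfl⟩
  intro g hg
  rw [Subgroup.mem_normalizer_iff]
  refine fun x => ⟨key g hg x, fun hx => ?_⟩
  have := key g⁻¹ (inv_mem hg) _ hx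
  simpa [mul_assoc] using this

/-- Every element is a product of a `p`-element and a `p'`-element among its powers. -/
theorem exists_split {p : ℕ} [hp : Fact p.Prime] (x : L) :
    ∃ u v : L, x = u * v ∧ u ∈ Subgroup.zpowers x ∧ v ∈ Subgroup.zpowers x ∧ (∃ k, orderOf u = p ^ k) ∧
      (orderOf v).Coprime p := by
  obtain ⟨k, m, hm, hn⟩ := Nat.exists_eq_pow_mul_and_not_dvd (orderOf_pos x).ne' p hp.out.ne_one
  have hm' : m.Coprime p := (hp.out.coprime_iff_not_dvd.2 hm).symm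
  have hcop : IsCoprime (p ^ k : ℤ) (m : ℤ) := by
    have := (Nat.Coprime.pow_right k hm').symm
    exact_mod_cast Nat.isCoprime_iff_coprime.2 this
  obtain ⟨a, b, hab⟩ := hcop
  have hx : x ^ ((p : ℤ) ^ k * m) = 1 := by
    rw [show ((p : ℤ) ^ k * m) = ((orderOf x : ℕ) : ℤ) by rw [hn]; push_cast; rfl, zpow_natCast, pow_orderOf_eq_one]
  refine ⟨x ^ (b * m), x ^ (a * (p : ℤ) ^ k), by rw [← zpow_add, add_comm, hab, zpow_one],
    zpow_mem (Subgroup.mem_zpowers x) _, zpow_mem (Subgroup.mem_zpowers x) _, ?_, ?_⟩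
  · obtain ⟨i, -, hi⟩ := (Nat.dvd_prime_pow hp.out).1 (show orderOf (x ^ (b * m)) ∣ p ^ k by
      apply orderOf_dvd_of_pow_eq_one
      rw [← zpow_natCast, ← zpow_mul, show b * (m : ℤ) * ((p ^ k : ℕ) : ℤ) = (p : ℤ) ^ k * m * b by push_cast; ring,
        zpow_mul, hx, one_zpow])
    exact ⟨i, hi⟩
  · refine hm'.coprime_dvd_left (orderOf_dvd_of_pow_eq_one ?_)
    rw [← zpow_natCast, ← zpow_mul, show a * (p : ℤ) ^ k * (m : ℤ) = (p : ℤ) ^ k * m * a by ring, zpow_mul, hx,
      one_zpow]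

theorem parts {p : ℕ} [hp : Fact p.Prime] {D : Subgroup L} (hD : Group.IsNilpotent D) :
    IsPGroup p (pPart p D) ∧ (Nat.card (cPart p D)).Coprime p ∧ Cmt (pPart p D) (cPart p D) := by
  obtain ⟨P⟩ := (inferInstance : Nonempty (Sylow p D))
  haveI hPn : (P : Subgroup D).Normal := ((Group.isNilpotent_of_finite_tfae (G := D)).out 0 3 rfl rfl).1 hD p hp P
  obtain ⟨K, hK⟩ := Subgroup.exists_left_complement'_of_coprime (N := (P : Subgroup D)) (by
    exact P.card_coprime_index)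
  haveI := hD
  have hcK : (Nat.card K).Coprime p := by
    have h1 : (P : Subgroup D).index = Nat.card K := hK.index_eq_card
    rw [← h1]
    exact ((hp.out.coprime_iff_not_dvd).2 P.not_dvd_index).symm
  have hcomm : ∀ u ∈ (P : Subgroup D), ∀ v ∈ K, Commute u v := by
    intro u hu v hv
    refine Cfsg.Agent.S3939.commute_of_coprime_nilpotent ?_
    obtain ⟨i, hi⟩ := IsPGroup.iff_orderOf.1 P.isPGroup' ⟨u, hu⟩
    rw [Subgroup.orderOf_mk] at hi
    rw [hi]
    exact Nat.Coprime.pow_left i ((hcK.coprime_dvd_left (K.orderOf_dvd_natCard hv)).symm)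
  have hP : ∀ x : D, (∃ k, orderOf x = p ^ k) → x ∈ (P : Subgroup D) := fun x ⟨k, hk⟩ => by
    have hz : IsPGroup p (Subgroup.zpowers x) := IsPGroup.of_card (n := k) (by rw [Nat.card_zpowers, hk])
    obtain ⟨Q, hQ⟩ := hz.exists_le_sylow
    haveI := Sylow.unique_of_normal P hPn
    rw [Subsingleton.elim P Q]
    exact hQ (Subgroup.mem_zpowers x)
  have hKm : ∀ x : D, (orderOf x).Coprime p → x ∈ K := by
    intro x hx
    obtain ⟨v, hv, u, hu, rfl⟩ : ∃ v ∈ K, ∃ u ∈ (P : Subgroup D), v * u = x := by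
      obtain ⟨⟨⟨v, hv⟩, ⟨u, hu⟩⟩, e⟩ := hK.2 x
      exact ⟨v, hv, u, hu, e⟩
    have hco : (orderOf v).Coprime (orderOf u) := by
      obtain ⟨i, hi⟩ := IsPGroup.iff_orderOf.1 P.isPGroup' ⟨u, hu⟩
      rw [Subgroup.orderOf_mk] at hi
      rw [hi]
      exact (hcK.coprime_dvd_left (K.orderOf_dvd_natCard hv)).pow_right i
    rw [(hcomm u hu v hv).symm.orderOf_mul_eq_mul_orderOf_of_coprime hco] at hx
    obtain ⟨i, hi⟩ := IsPGroup.iff_orderOf.1 P.isPGroup' ⟨u, hu⟩
    rw [Subgroup.orderOf_mk] at hi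
    have hu1 : u = 1 := orderOf_eq_one_iff.1 (Nat.eq_one_of_dvd_coprimes
      ((Nat.coprime_mul_iff_left.1 hx).2.pow_right i) dvd_rfl (hi ▸ dvd_rfl))
    rw [hu1, mul_one]
    exact hv
  have hpP : pPart p D ≤ (P : Subgroup D).map D.subtype := by
    refine (Subgroup.closure_le _).2 ?_
    rintro x ⟨hx, k, hk⟩
    exact ⟨⟨x, hx⟩, hP _ ⟨k, by rw [Subgroup.orderOf_mk, hk]⟩, rfl⟩
  have hcP : cPart p D ≤ K.map D.subtype := by
    refine (Subgroup.closure_le _).2 ?_
    rintro x ⟨hx, hk⟩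
    exact ⟨⟨x, hx⟩, hKm _ (by rw [Subgroup.orderOf_mk]; exact hk), rfl⟩
  refine ⟨(P.isPGroup'.map _).to_le hpP, ?_, ?_⟩
  · refine hcK.coprime_dvd_left ((Subgroup.card_dvd_of_le hcP).trans ?_)
    rw [Subgroup.card_map_of_injective D.subtype_injective]
  · intro x hx y hy
    obtain ⟨u, hu, rfl⟩ := hpP hx
    obtain ⟨v, hv, rfl⟩ := hcP hy
    exact congrArg Subtype.val (hcomm u hu v hv).eq

/-- Elements are controlled by their powers of prime power order. -/
theorem mem_of_prime_powers (C : Subgroup L) (x : L)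
    (h : ∀ y ∈ Subgroup.zpowers x, (∃ q k : ℕ, q.Prime ∧ orderOf y = q ^ k) → y ∈ C) : x ∈ C := by
  induction hn : orderOf x using Nat.strong_induction_on generalizing x with
  | _ n ih =>
    subst hn
    by_cases h1 : orderOf x = 1
    · rw [orderOf_eq_one_iff.1 h1]; exact one_mem C
    obtain ⟨p, hp, hpd⟩ := Nat.exists_prime_and_dvd h1
    haveI := Fact.mk hp
    obtain ⟨u, v, e, hu, hv, ⟨k, hk⟩, hvc⟩ := exists_split (p := p) x
    have hdv : orderOf v ∣ orderOf x := orderOf_dvd_of_mem_zpowers hv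
    have hlt : orderOf v < orderOf x := by
      refine lt_of_le_of_ne (Nat.le_of_dvd (orderOf_pos x) hdv) fun e' => ?_
      rw [e'] at hvc
      exact hp.ne_one (Nat.eq_one_of_dvd_coprimes hvc hpd dvd_rfl)
    rw [e]
    exact mul_mem (h u hu ⟨p, k, hp, hk⟩)
      (ih _ hlt v (fun y hy => h y (Subgroup.zpowers_le.2 hv hy)) rfl)

/-- A `p`-element `v * a` with `v`, `a` of order prime to `p`, `a` normalizing `V`, is trivial. -/
theorem mul_eq_one_of_coprime {p : ℕ} [hp : Fact p.Prime] {V : Subgroup L} (hV : (Nat.card V).Coprime p)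
    {v a : L} (hv : v ∈ V) (ha : a ∈ Subgroup.normalizer (V : Set L)) (hao : (orderOf a).Coprime p)
    {P : Subgroup L} (hP : IsPGroup p P) (hva : v * a ∈ P) : v * a = 1 := by
  have hk : ∀ k : ℕ, ∃ w ∈ V, (v * a) ^ k = w * a ^ k := by
    intro k
    induction k with
    | zero => exact ⟨1, one_mem V, by simp⟩
    | succ k ihk =>
      obtain ⟨w, hw, e⟩ := ihk
      refine ⟨w * (a ^ k * v * (a ^ k)⁻¹), mul_mem hw ((Subgroup.mem_normalizer_iff.1 (pow_mem ha k) v).1 hv), ?_⟩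
      rw [pow_succ, e, pow_succ]
      group
  obtain ⟨w, hw, e⟩ := hk (orderOf a)
  rw [pow_orderOf_eq_one, mul_one] at e
  have h1 : (v * a) ^ (orderOf a * Nat.card V) = 1 := by
    rw [pow_mul, e, ← orderOf_dvd_iff_pow_eq_one]
    exact V.orderOf_dvd_natCard hw
  obtain ⟨i, hi⟩ := IsPGroup.iff_orderOf.1 hP ⟨_, hva⟩
  rw [Subgroup.orderOf_mk] at hi
  exact orderOf_eq_one_iff.1 (Nat.eq_one_of_dvd_coprimes ((Nat.Coprime.mul_left hao hV).pow_right i)
    (orderOf_dvd_of_pow_eq_one h1) (hi ▸ dvd_rfl))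

end CfsgLib.GHFour
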