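import Mathlib
import Cfsg.Agent.GHFour.Prep
import Cfsg.Agent.S3071
import Cfsg.Agent.ZJ.Glauberman
import Cfsg.Agent.Transfer.Focal
import Cfsg.Agent.CoprimeAction.Invariant
import Cfsg.Agent.QdFree.Corollaries
import Cfsg.Agent.RankOneP.Basic

/-!
Local analysis of a minimal non-solvable group with a fixed-point-free automorphism of order four.
-/

set_option autoImplicit false
set_option linter.unusedSectionVars false
set_option linter.style.haveILetI false

open scoped Pointwise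

namespace CfsgLib.GHFour

variable {L : Type*} [Group L] [Finite L] {σ : MulAut L}

/-- A minimal counterexample. -/
structure Hyp (σ : MulAut L) : Prop where
  h4 : σ ^ 4 = 1
  hf : ∀ x, σ x = x → x = 1
  perf : commutator L = ⊤
  nt : Nontrivial L
  sol : ∀ X : Subgroup L, Inv σ X → X ≠ ⊤ → Group.IsSolvable X
  simp : ∀ N : Subgroup L, N.Normal → Inv σ N → N = ⊥ ∨ N = ⊤

/-- The invariant Sylow subgroup, as the join of all invariant `p`-subgroups. -/
def syl (σ : MulAut L) (p : ℕ) : Subgroup L := sSup {R | IsPGroup p R ∧ Inv σ R}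

/-- Primes whose invariant Sylow subgroup is normalized by the fixed points and generated by displacements. -/
structure Good (σ : MulAut L) (p : ℕ) : Prop where
  prime : p.Prime
  norm : Fixed σ ≤ Subgroup.normalizer (syl σ p : Set L)
  disp_eq : disp σ (syl σ p) = syl σ p
  ne : syl σ p ≠ ⊥

/-- Two primes are related when their invariant Sylow subgroups commute. -/
def Rel (σ : MulAut L) (p q : ℕ) : Prop := p = q ∨ Cmt (syl σ p) (syl σ q)

theorem Rel.symm {p q : ℕ} (h : Rel σ p q) : Rel σ q p := h.imp Eq.symm Cmt.symm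

variable (H : Hyp σ)
include H

theorem not_solvable : ¬ Group.IsSolvable L := fun h => by
  haveI := H.nt
  exact (Group.IsSolvable.commutator_lt_top_of_nontrivial (G := L)).ne H.perf

theorem center_eq_bot : Subgroup.center L = ⊥ := by
  refine (H.simp _ inferInstance ?_).resolve_right fun e => ?_
  · rw [← Subgroup.centralizer_univ, ← Subgroup.coe_top]
    exact inv_centralizer inv_top
  · exact not_solvable H (Group.isSolvable_of_comm fun a b =>
      (Subgroup.mem_center_iff.1 (e.ge (Subgroup.mem_top b)) a))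

theorem centralizer_ne_top {X : Subgroup L} (hX : X ≠ ⊥) : Subgroup.centralizer (X : Set L) ≠ ⊤ := fun e =>
  hX (le_bot_iff.1 ((Subgroup.centralizer_eq_top_iff_subset.1 e).trans_eq (congrArg _ (center_eq_bot H))))

theorem centralizer_singleton_ne_top {a : L} (ha : a ≠ 1) : Subgroup.centralizer ({a} : Set L) ≠ ⊤ := fun e => by
  have : a ∈ (Subgroup.center L : Set L) := Subgroup.centralizer_eq_top_iff_subset.1 e rfl
  rw [center_eq_bot H] at this
  exact ha (Subgroup.mem_bot.1 this)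

theorem isPGroup_ne_top {p : ℕ} [Fact p.Prime] {X : Subgroup L} (hX : IsPGroup p X) : X ≠ ⊤ := by
  rintro rfl
  haveI : Group.IsNilpotent ↥(⊤ : Subgroup L) := hX.isNilpotent
  haveI : Group.IsNilpotent L := Group.nilpotent_of_mulEquiv Subgroup.topEquiv
  exact not_solvable H inferInstance

theorem normalizer_ne_top {X : Subgroup L} (hXi : Inv σ X) (h : X ≠ ⊥) (h' : X ≠ ⊤) :
    Subgroup.normalizer (X : Set L) ≠ ⊤ := fun e =>
  ((H.simp X (Subgroup.normalizer_eq_top_iff.1 e) hXi).elim h h')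

theorem fixed_ne_top : Fixed σ ≠ ⊤ := fun e => not_solvable H (Group.isSolvable_of_comm fun a b =>
  fixed_comm H.hf (e.ge (Subgroup.mem_top a)) (e.ge (Subgroup.mem_top b)))

theorem fixed_ne_bot : Fixed σ ≠ ⊥ := fun e => not_solvable H (by
  have hinv : ∀ y : L, σ (σ y) = y⁻¹ := fun y => by
    obtain ⟨x, -, hx⟩ := CfsgLib.FpfFour.exists_inv_mul_eq (σ * σ) ⊤ (fun x _ => Subgroup.mem_top _)
      (fun x _ hx => Subgroup.mem_bot.1 (e.le hx)) (Subgroup.mem_top y)
    have h4 : σ (σ (σ (σ x))) = x := DFunLike.congr_fun H.h4 x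
    replace hx : x⁻¹ * σ (σ x) = y := hx
    rw [← hx, map_mul, map_mul, map_inv, map_inv, h4, mul_inv_rev, inv_inv]
  refine Group.isSolvable_of_comm fun a b => ?_
  have h1 := hinv (a * b)
  rw [map_mul, map_mul, hinv, hinv, mul_inv_rev] at h1
  simpa using (congrArg (·⁻¹) h1).symm)

theorem fixed_comm' {a b : L} (ha : a ∈ Fixed σ) (hb : b ∈ Fixed σ) : a * b = b * a := fixed_comm H.hf ha hb

theorem fixed_le_normalizer_of_le {X : Subgroup L} (hX : X ≤ Fixed σ) :
    Fixed σ ≤ Subgroup.normalizer (X : Set L) := fun a ha =>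
  Subgroup.centralizer_le_normalizer _ (Subgroup.mem_centralizer_iff.2 fun x hx => fixed_comm' H (hX hx) ha)

/-- Subgroups generated by their displacements commute inside a proper invariant subgroup. -/
theorem comm_of {X U S : Subgroup L} {p q : ℕ} [Fact p.Prime] [Fact q.Prime] (hXi : Inv σ X) (hX : X ≠ ⊤)
    (hU : U ≤ X) (hS : S ≤ X) (hUd : disp σ U = U) (hSd : disp σ S = S) (hUp : IsPGroup p U)
    (hSq : IsPGroup q S) (hpq : p ≠ q) : Cmt U S := by
  intro u hu s hs
  haveI := disp_nilpotent H.h4 H.hf hXi (H.sol X hXi hX)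
  have hu' : u ∈ disp σ X := disp_mono hU (hUd.ge hu)
  have hs' : s ∈ disp σ X := disp_mono hS (hSd.ge hs)
  obtain ⟨i, hi⟩ := IsPGroup.iff_orderOf.1 hUp ⟨u, hu⟩
  obtain ⟨j, hj⟩ := IsPGroup.iff_orderOf.1 hSq ⟨s, hs⟩
  rw [Subgroup.orderOf_mk] at hi hj
  exact congrArg Subtype.val (Cfsg.Agent.S3939.commute_of_coprime_nilpotent (K := ↥(disp σ X))
    (a := ⟨u, hu'⟩) (b := ⟨s, hs'⟩) (by
      rw [Subgroup.orderOf_mk, Subgroup.orderOf_mk, hi, hj]
      exact Nat.Coprime.pow _ _ ((Nat.coprime_primes Fact.out Fact.out).2 hpq)))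

theorem exists_syl (p : ℕ) [Fact p.Prime] :
    ∃ P : Sylow p L, Inv σ (P : Subgroup L) ∧ (P : Subgroup L) = syl σ p := by
  obtain ⟨P, hPi, -⟩ := exists_invariant_sylow_ge H.h4 H.hf (p := p) (R := ⊥) IsPGroup.of_bot
    (fun x hx => by rw [Subgroup.mem_bot.1 hx, map_one]; exact one_mem _)
  refine ⟨P, hPi, le_antisymm (le_sSup ⟨P.isPGroup', hPi⟩) (sSup_le fun R hR => ?_)⟩
  obtain ⟨Q, hQi, hRQ⟩ := exists_invariant_sylow_ge H.h4 H.hf hR.1 hR.2
  rwa [invariant_sylow_unique H.h4 H.hf hPi hQi]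

theorem inv_syl (p : ℕ) [Fact p.Prime] : Inv σ (syl σ p) := by
  obtain ⟨P, hP, e⟩ := exists_syl H p
  rwa [← e]

theorem isPGroup_syl (p : ℕ) [Fact p.Prime] : IsPGroup p (syl σ p) := by
  obtain ⟨P, hP, e⟩ := exists_syl H p
  rw [← e]
  exact P.isPGroup'

theorem le_syl {p : ℕ} {R : Subgroup L} (h : IsPGroup p R) (hi : Inv σ R) : R ≤ syl σ p := le_sSup ⟨h, hi⟩

theorem mem_syl_of_fixed {p : ℕ} [hp : Fact p.Prime] {a : L} (ha : a ∈ Fixed σ)
    (hk : ∃ k, orderOf a = p ^ k) : a ∈ syl σ p := by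
  obtain ⟨k, hk⟩ := hk
  exact le_syl H (IsPGroup.of_card (n := k) (by rw [Nat.card_zpowers, hk])) (inv_zpowers H.hf ha)
    (Subgroup.mem_zpowers a)

theorem fixed_nilpotent : Group.IsNilpotent ↥(Fixed σ) := by
  letI : CommGroup ↥(Fixed σ) :=
    { (inferInstance : Group ↥(Fixed σ)) with mul_comm := fun a b => Subtype.ext (fixed_comm' H a.2 b.2) }
  exact inferInstance

theorem inf_fixed_nilpotent (X : Subgroup L) : Group.IsNilpotent ↥(X ⊓ Fixed σ) := by
  haveI := fixed_nilpotent H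
  exact Group.nilpotent_of_mulEquiv
    (Subgroup.subgroupOfEquivOfLe (inf_le_right : X ⊓ Fixed σ ≤ Fixed σ))

/-- If some nontrivial invariant `p`-subgroup is normalized by the fixed points, so is the invariant Sylow
subgroup. -/
theorem grow {p : ℕ} [Fact p.Prime] {R : Subgroup L} (hR : IsPGroup p R) (hRi : Inv σ R) (hR1 : R ≠ ⊥)
    (hRn : Fixed σ ≤ Subgroup.normalizer (R : Set L)) : Fixed σ ≤ Subgroup.normalizer (syl σ p : Set L) := by
  obtain ⟨M, hM⟩ := Set.Finite.exists_maximal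
    (s := {M : Subgroup L | IsPGroup p M ∧ Inv σ M ∧ R ≤ M ∧ Fixed σ ≤ Subgroup.normalizer (M : Set L)})
    (Set.toFinite _) ⟨R, hR, hRi, le_rfl, hRn⟩
  obtain ⟨hMp, hMi, hRM, hMn⟩ := hM.prop
  set P := syl σ p with hP
  have hMP : M ≤ P := le_syl H hMp hMi
  suffices e : M = P by rwa [← e]
  by_contra hne
  have hlt : M < P := lt_of_le_of_ne hMP hne
  have hM1 : M ≠ ⊥ := fun e => hR1 (le_bot_iff.1 (e ▸ hRM))
  set N := Subgroup.normalizer (M : Set L) with hN
  have hNi : Inv σ N := inv_normalizer hMi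
  have hNt : N ≠ ⊤ := normalizer_ne_top H hMi hM1 (isPGroup_ne_top H hMp)
  set D := disp σ N with hD
  have hDn := disp_nilpotent H.h4 H.hf hNi (H.sol N hNi hNt)
  obtain ⟨hup, hvc, -⟩ := parts (p := p) hDn
  set B := N ⊓ Fixed σ with hB
  obtain ⟨hap, hbc, -⟩ := parts (p := p) (inf_fixed_nilpotent H N)
  have hfD : Fixed σ ≤ Subgroup.normalizer (D : Set L) := fun a ha =>
    disp_normalized_fixed ha (Subgroup.le_normalizer (hMn ha))
  have hBi : Inv σ B := inv_inf hNi inv_fixed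
  have hnu : Fixed σ ≤ Subgroup.normalizer (pPart p D : Set L) := hfD.trans normalizer_le_pPart
  have hBF : pPart p B ≤ Fixed σ := pPart_le.trans inf_le_right
  set T := pPart p D ⊔ pPart p B with hT
  have hTi : Inv σ T := inv_sup (inv_pPart (inv_disp hNi)) (inv_pPart hBi)
  have hTn : Fixed σ ≤ Subgroup.normalizer (T : Set L) := by
    refine fun a ha => Subgroup.mem_normalizer_iff_map_conj_eq.2 ?_
    rw [hT, Subgroup.map_sup, Subgroup.mem_normalizer_iff_map_conj_eq.1 (hnu ha),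
      Subgroup.mem_normalizer_iff_map_conj_eq.1 (fixed_le_normalizer_of_le H hBF ha)]
  have hTP : T ≤ P := sup_le (le_syl H hup (inv_pPart (inv_disp hNi))) (le_syl H hap (inv_pPart hBi))
  have hPN : P ⊓ N ≤ T := by
    intro x hx
    obtain ⟨d, hd, a, haN, ha, rfl⟩ := exists_factor H.h4 H.hf hNi hx.2
    obtain ⟨u, v, rfl, hu, hv, huk, hvk⟩ := exists_split (p := p) d
    obtain ⟨a₁, a₂, rfl, ha₁, ha₂, ha₁k, ha₂k⟩ := exists_split (p := p) a
    have hu' : u ∈ pPart p D := Subgroup.subset_closure ⟨Subgroup.zpowers_le.2 hd hu, huk⟩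
    have hv' : v ∈ cPart p D := Subgroup.subset_closure ⟨Subgroup.zpowers_le.2 hd hv, hvk⟩
    have hB₁ : a₁ ∈ B := (Subgroup.zpowers_le.2 (show a₁ * a₂ ∈ B from ⟨haN, ha⟩)) ha₁
    have hB₂ : a₂ ∈ B := (Subgroup.zpowers_le.2 (show a₁ * a₂ ∈ B from ⟨haN, ha⟩)) ha₂
    have ha1' : a₁ ∈ pPart p B := Subgroup.subset_closure ⟨hB₁, ha₁k⟩
    have hv'' : a₁⁻¹ * v * a₁ ∈ cPart p D := by
      have := (Subgroup.mem_normalizer_iff.1 (normalizer_le_cPart (p := p) (hfD (inv_mem hB₁.2))) v).1 hv'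
      rwa [inv_inv] at this
    have e : u * v * (a₁ * a₂) = u * a₁ * (a₁⁻¹ * v * a₁ * a₂) := by group
    have hua : u * a₁ ∈ T := mul_mem (le_sup_left (a := pPart p D) hu') (le_sup_right (b := pPart p B) ha1')
    have h1 : a₁⁻¹ * v * a₁ * a₂ = 1 := by
      refine mul_eq_one_of_coprime hvc hv'' (normalizer_le_cPart (hfD hB₂.2)) ha₂k (isPGroup_syl H p) ?_
      have h2 := mul_mem (inv_mem (hTP hua)) hx.1
      rwa [e, inv_mul_cancel_left] at h2
    rw [e, h1, mul_one]
    exact hua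
  have hgt : M < P ⊓ N := by
    haveI : Group.IsNilpotent ↥P := (isPGroup_syl H p).isNilpotent
    have h2 := Group.normalizerCondition_of_isNilpotent (M.subgroupOf P)
      (lt_top_iff_ne_top.2 fun h => hlt.not_ge (Subgroup.subgroupOf_eq_top.1 h))
    obtain ⟨y, hy, hyM⟩ := SetLike.exists_of_lt h2
    have hyN : (y : L) ∈ N := by
      rw [hN, Subgroup.mem_normalizer_iff]
      intro z
      constructor
      · exact fun hz => ((Subgroup.mem_normalizer_iff.1 hy) ⟨z, hlt.le hz⟩).1 hz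
      · intro hz
        have hzP : z ∈ P := by
          have := mul_mem (mul_mem (inv_mem y.2) (hlt.le hz)) y.2
          simpa [mul_assoc] using this
        exact ((Subgroup.mem_normalizer_iff.1 hy) ⟨z, hzP⟩).2 hz
    exact lt_of_le_of_ne (le_inf hMP Subgroup.le_normalizer) fun e => hyM (e.ge ⟨y.2, hyN⟩)
  have hlast : M < T := lt_of_lt_of_le hgt hPN
  exact hlast.not_ge (hM.2 ⟨(isPGroup_syl H p).to_le hTP, hTi, hRM.trans hlast.le, hTn⟩ hlast.le)

theorem exists_fixed_prime {p : ℕ} [hp : Fact p.Prime] (hd : p ∣ Nat.card (Fixed σ)) :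
    ∃ z ∈ Fixed σ, orderOf z = p ∧ z ∈ syl σ p := by
  obtain ⟨x, hx⟩ := exists_prime_orderOf_dvd_card' p hd
  rw [← Subgroup.orderOf_coe] at hx
  exact ⟨x, x.2, hx, mem_syl_of_fixed H x.2 ⟨1, by rw [pow_one]; exact hx⟩⟩

theorem two_ne {p : ℕ} (hd : p ∣ Nat.card L) : p ≠ 2 := by
  rintro rfl
  exact Nat.not_even_iff_odd.2 (CfsgLib.FpfFour.odd_card σ H.h4 H.hf) (even_iff_two_dvd.2 hd)

/-- A Sylow subgroup lies in every normal subgroup with nilpotent quotient of the normalizer of `Z(J(P))`. -/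
theorem sylow_le_of_quot {p : ℕ} [Fact p.Prime] (S : Sylow p L) (hp2 : p ≠ 2) (N : Subgroup L)
    (hL : Subgroup.normalizer (CfsgLib.ZJ.W p false (S : Subgroup L) : Set L) ≤ N) (K : Subgroup N) [K.Normal]
    (hK : Group.IsNilpotent (N ⧸ K)) : (S : Subgroup L) ≤ K.map N.subtype := by
  have hSL : (S : Subgroup L) ≤ N :=
    (Subgroup.le_normalizer.trans (CfsgLib.ZJ.normalizer_le_normalizer_W _)).trans hL
  have hctrl := Cfsg.Agent.S3071.result hp2 S fun P _ _ ⟨Y, R, hR, _, ⟨e⟩⟩ => by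
    haveI := hR
    refine Nat.not_even_iff_odd.2 (CfsgLib.FpfFour.odd_card σ H.h4 H.hf)
      (even_iff_two_dvd.2 (((CfsgLib.QdFree.two_dvd_card_sl2 hp2).trans ?_).trans (Subgroup.card_subgroup_dvd_card Y)))
    rw [← Nat.card_congr e.toEquiv]
    exact Subgroup.card_quotient_dvd_card _
  rw [CfsgLib.ZJ.centerThompsonAOf_eq p] at hctrl
  have hfoc : (S : Subgroup L) ≤ ⁅(S : Subgroup L), N⁆ := by
    refine le_trans ?_ (CfsgLib.Transfer.focalSubgroup_le_commutator_of_control fun x hx g hg => ?_)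
    · rw [← CfsgLib.Transfer.inf_commutator_eq_focal S, H.perf, inf_top_eq]
    · obtain ⟨n, hn, he⟩ := (hctrl x hx _ hg).1 ⟨g, rfl⟩
      exact ⟨n, hL hn, he⟩
  have hlcs : ∀ n, (S : Subgroup L) ≤ N.lowerCentralSeries n := by
    intro n
    induction n with
    | zero => exact hSL
    | succ n ih => exact hfoc.trans (Subgroup.commutator_mono ih le_rfl)
  obtain ⟨n, hn⟩ := Subgroup.nilpotent_iff_lowerCentralSeries.1 hK
  refine (hlcs n).trans ?_
  rw [← Subgroup.top_subtype_lowerCentralSeries]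
  refine Subgroup.map_mono fun z hz => (QuotientGroup.eq_one_iff z).1 ?_
  have h1 : QuotientGroup.mk' K z ∈ ((⊤ : Subgroup N).lowerCentralSeries n).map (QuotientGroup.mk' K) := ⟨z, hz, rfl⟩
  rw [Subgroup.map_lowerCentralSeries, Subgroup.map_top_of_surjective _ (QuotientGroup.mk'_surjective K), hn,
    Subgroup.mem_bot] at h1
  exact h1

theorem good_of_dvd {p : ℕ} [hp : Fact p.Prime] (hd : p ∣ Nat.card (Fixed σ)) : Good σ p := by
  obtain ⟨z, hzF, hzo, hzP⟩ := exists_fixed_prime H hd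
  have hne : syl σ p ≠ ⊥ := fun e => by
    rw [e, Subgroup.mem_bot] at hzP
    rw [hzP, orderOf_one] at hzo
    exact hp.out.ne_one hzo.symm
  have hFn : Fixed σ ≤ Subgroup.normalizer (syl σ p : Set L) := by
    obtain ⟨hap, -, -⟩ := parts (p := p) (fixed_nilpotent H)
    refine grow H hap (inv_pPart inv_fixed) ?_ (fixed_le_normalizer_of_le H pPart_le)
    intro e
    have : z ∈ pPart p (Fixed σ) := Subgroup.subset_closure ⟨hzF, 1, by rw [pow_one, hzo]⟩
    rw [e, Subgroup.mem_bot] at this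
    rw [this, orderOf_one] at hzo
    exact hp.out.ne_one hzo.symm
  refine ⟨hp.out, hFn, le_antisymm (disp_le (inv_syl H p)) ?_, hne⟩
  obtain ⟨S, hSi, hS⟩ := exists_syl H p
  set P := syl σ p with hP
  have hp2 : p ≠ 2 := two_ne H (hd.trans (Subgroup.card_subgroup_dvd_card _))
  set W := CfsgLib.ZJ.W p false (S : Subgroup L) with hW
  have hWi : Inv σ W := by
    refine inv_of_map_le (le_of_eq ?_)
    rw [hW, ← CfsgLib.ZJ.W_map σ.toMonoidHom (fun x _ hx => σ.injective (hx.trans (map_one σ).symm)), hSi.map_eq]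
  have hWne : W ≠ ⊥ := CfsgLib.ZJ.W_ne_bot S.isPGroup' (hS ▸ hne)
  have hWtop : W ≠ ⊤ := fun e => isPGroup_ne_top H S.isPGroup' (top_le_iff.1 (e ▸ CfsgLib.ZJ.W_le _))
  set N := Subgroup.normalizer (W : Set L) with hN
  have hNi : Inv σ N := inv_normalizer hWi
  have hNt : N ≠ ⊤ := normalizer_ne_top H hWi hWne hWtop
  set D := disp σ N with hD
  haveI : (D.subgroupOf N).Normal :=
    (Subgroup.normal_subgroupOf_iff_le_normalizer (disp_le hNi)).2 disp_normalized
  have hQ : Group.IsNilpotent (N ⧸ D.subgroupOf N) := by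
    have hc : ∀ x y : N ⧸ D.subgroupOf N, x * y = y * x := by
      intro x y
      have hrep : ∀ x : N ⧸ D.subgroupOf N, ∃ a : N, (a : L) ∈ Fixed σ ∧ x = (a : N ⧸ D.subgroupOf N) := by
        intro x
        obtain ⟨n, rfl⟩ := QuotientGroup.mk_surjective x
        obtain ⟨d, hd, a, haN, ha, e⟩ := exists_factor H.h4 H.hf hNi n.2
        refine ⟨⟨a, haN⟩, ha, ?_⟩
        rw [show n = (⟨d, disp_le hNi hd⟩ : N) * ⟨a, haN⟩ from Subtype.ext e, QuotientGroup.mk_mul,
          (QuotientGroup.eq_one_iff _).2 (Subgroup.mem_subgroupOf.2 hd), one_mul]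
      obtain ⟨a, ha, rfl⟩ := hrep x
      obtain ⟨b, hb, rfl⟩ := hrep y
      rw [← QuotientGroup.mk_mul, ← QuotientGroup.mk_mul]
      exact congrArg _ (Subtype.ext (fixed_comm' H ha hb))
    letI : CommGroup (N ⧸ D.subgroupOf N) :=
      { (inferInstance : Group (N ⧸ D.subgroupOf N)) with mul_comm := hc }
    exact inferInstance
  have hPD : P ≤ D := by
    rw [← hS]
    refine (sylow_le_of_quot H S hp2 N le_rfl _ hQ).trans ?_
    rintro _ ⟨x, hx, rfl⟩
    exact Subgroup.mem_subgroupOf.1 hx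
  obtain ⟨hup, hvc, huv⟩ := parts (p := p) (disp_nilpotent H.h4 H.hf hNi (H.sol N hNi hNt))
  set V := cPart p D with hV
  have hPu : P ≤ pPart p D := fun x hx => Subgroup.subset_closure ⟨hPD hx, by
    obtain ⟨k, hk⟩ := IsPGroup.iff_orderOf.1 (isPGroup_syl H p) ⟨x, hx⟩
    exact ⟨k, by rw [← hk, Subgroup.orderOf_mk]⟩⟩
  have huP : pPart p D ≤ P := le_syl H hup (inv_pPart (inv_disp hNi))
  have hfD : ∀ a ∈ Fixed σ, a ∈ N → a ∈ Subgroup.normalizer (D : Set L) := fun a ha haN =>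
    disp_normalized_fixed ha (Subgroup.le_normalizer haN)
  have hdP : disp σ P ≤ Subgroup.centralizer (V : Set L) :=
    (disp_le (inv_syl H p)).trans (hPu.trans huv.le_centralizer)
  have hdN : ∀ d ∈ D, ∀ a ∈ Fixed σ, a ∈ N → (d * a)⁻¹ * σ (σ (d * a)) ∈ disp σ P ⊔ V := by
    intro d hd a ha haN
    obtain ⟨u, v, rfl, hu, hv, huk, hvk⟩ := exists_split (p := p) d
    have hu' : u ∈ pPart p D := Subgroup.subset_closure ⟨Subgroup.zpowers_le.2 hd hu, huk⟩
    have hv' : v ∈ V := Subgroup.subset_closure ⟨Subgroup.zpowers_le.2 hd hv, hvk⟩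
    have hτu : σ (σ u) ∈ pPart p D := inv_pPart (inv_disp hNi) _ (inv_pPart (inv_disp hNi) _ hu')
    have hgv : v⁻¹ * σ (σ v) ∈ V := mul_mem (inv_mem hv') (inv_cPart (inv_disp hNi) _ (inv_cPart (inv_disp hNi) _ hv'))
    have hgu : u⁻¹ * σ (σ u) ∈ disp σ P := mem_disp (huP hu')
    have e : (u * v * a)⁻¹ * σ (σ (u * v * a)) =
        (a⁻¹ * (u⁻¹ * σ (σ u)) * a⁻¹⁻¹) * (a⁻¹ * (v⁻¹ * σ (σ v)) * a⁻¹⁻¹) := by
      have h1 : v⁻¹ * (u⁻¹ * σ (σ u)) = u⁻¹ * σ (σ u) * v⁻¹ :=
        (huv _ (mul_mem (inv_mem hu') hτu) _ (inv_mem hv')).symm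
      calc (u * v * a)⁻¹ * σ (σ (u * v * a)) = a⁻¹ * (v⁻¹ * (u⁻¹ * σ (σ u))) * σ (σ v) * a := by
            simp only [map_mul, mem_fixed.1 ha]; group
        _ = _ := by rw [h1]; group
    rw [e]
    exact mul_mem (le_sup_left (a := disp σ P)
      ((Subgroup.mem_normalizer_iff.1 (disp_normalized_fixed (inv_mem ha) (hFn (inv_mem ha))) _).1 hgu))
      (le_sup_right (b := V)
        ((Subgroup.mem_normalizer_iff.1 (normalizer_le_cPart (hfD _ (inv_mem ha) (inv_mem haN))) _).1 hgv))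
  have hDM : D ≤ disp σ P ⊔ V := by
    refine (Subgroup.closure_le _).2 ?_
    rintro _ ⟨n, hn, rfl⟩
    obtain ⟨d, hd, a, haN, ha, rfl⟩ := exists_factor H.h4 H.hf hNi hn
    exact hdN d hd a ha haN
  intro x hx
  have hm : x ∈ ((disp σ P : Set L) * (V : Set L)) := by
    rw [← Subgroup.coe_mul_of_left_le_normalizer_right _ _ (hdP.trans (Subgroup.centralizer_le_normalizer _))]
    exact hDM (hPD hx)
  obtain ⟨w, hw, v, hv, rfl⟩ := hm
  have hvP : v ∈ P := by
    have := mul_mem (inv_mem (disp_le (inv_syl H p) hw)) hx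
    rwa [inv_mul_cancel_left] at this
  have hv1 : v * 1 = 1 := mul_eq_one_of_coprime hvc hv (one_mem _) (by rw [orderOf_one]; exact Nat.coprime_one_left p)
    (isPGroup_syl H p) (by rwa [mul_one])
  rw [mul_one] at hv1
  show w * v ∈ disp σ P
  rw [hv1, mul_one]
  exact hw

theorem single_class_false {p : ℕ} [hp : Fact p.Prime] (hd : p ∣ Nat.card (Fixed σ))
    (hall : ∀ q : ℕ, q.Prime → q ∣ Nat.card (Fixed σ) → q ≠ p → Cmt (syl σ p) (syl σ q)) : False := by
  have hG := good_of_dvd H hd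
  obtain ⟨S, hSi, hS⟩ := exists_syl H p
  set P := syl σ p with hP
  have hp2 : p ≠ 2 := two_ne H (hd.trans (Subgroup.card_subgroup_dvd_card _))
  set W := CfsgLib.ZJ.W p false (S : Subgroup L) with hW
  have hWi : Inv σ W := by
    refine inv_of_map_le (le_of_eq ?_)
    rw [hW, ← CfsgLib.ZJ.W_map σ.toMonoidHom (fun x _ hx => σ.injective (hx.trans (map_one σ).symm)), hSi.map_eq]
  have hWne : W ≠ ⊥ := CfsgLib.ZJ.W_ne_bot S.isPGroup' (hS ▸ hG.ne)
  have hWtop : W ≠ ⊤ := fun e => isPGroup_ne_top H S.isPGroup' (top_le_iff.1 (e ▸ CfsgLib.ZJ.W_le _))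
  set N := Subgroup.normalizer (W : Set L) with hN
  have hNi : Inv σ N := inv_normalizer hWi
  have hNt : N ≠ ⊤ := normalizer_ne_top H hWi hWne hWtop
  have hPN : P ≤ N := hS ▸ (Subgroup.le_normalizer.trans (CfsgLib.ZJ.normalizer_le_normalizer_W _))
  set D := disp σ N with hD
  obtain ⟨hup, hvc, huv⟩ := parts (p := p) (disp_nilpotent H.h4 H.hf hNi (H.sol N hNi hNt))
  set B := N ⊓ Fixed σ with hB
  obtain ⟨hap, hbc, -⟩ := parts (p := p) (inf_fixed_nilpotent H N)
  have hPu : P ≤ pPart p D := fun x hx => Subgroup.subset_closure ⟨disp_mono hPN (hG.disp_eq.ge hx), by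
    obtain ⟨k, hk⟩ := IsPGroup.iff_orderOf.1 (isPGroup_syl H p) ⟨x, hx⟩
    exact ⟨k, by rw [← hk, Subgroup.orderOf_mk]⟩⟩
  have huP : pPart p D ≤ P := le_syl H hup (inv_pPart (inv_disp hNi))
  set K := cPart p D ⊔ cPart p B with hK
  have hPB : P ≤ Subgroup.centralizer (cPart p B : Set L) := by
    refine fun x hx => ?_
    rw [cPart, Subgroup.centralizer_closure, Subgroup.mem_centralizer_iff]
    rintro b ⟨hb, hbo⟩
    have h1 : b ∈ Subgroup.centralizer ({x} : Set L) := mem_of_prime_powers _ b fun y hy ⟨q, k, hq, hk⟩ => by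
      rw [Subgroup.mem_centralizer_singleton_iff]
      have hyF : y ∈ Fixed σ := Subgroup.zpowers_le.2 hb.2 hy
      by_cases hk0 : k = 0
      · rw [hk0, pow_zero, orderOf_eq_one_iff] at hk
        simp [hk]
      haveI := Fact.mk hq
      have hqb : q ∣ orderOf b := ((dvd_pow_self q hk0).trans hk.symm.dvd).trans (orderOf_dvd_of_mem_zpowers hy)
      have hqp : q ≠ p := fun e => hq.ne_one (Nat.eq_one_of_dvd_coprimes hbo hqb (e ▸ dvd_rfl))
      have hqF : q ∣ Nat.card (Fixed σ) :=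
        hqb.trans ((Fixed σ).orderOf_dvd_natCard hb.2)
      exact (hall q hq hqF hqp x hx y (mem_syl_of_fixed H hyF ⟨k, hk⟩)).symm
    exact Subgroup.mem_centralizer_singleton_iff.1 h1
  have hPD : P ≤ Subgroup.centralizer (cPart p D : Set L) := hPu.trans huv.le_centralizer
  have hPK : P ≤ Subgroup.normalizer (K : Set L) := by
    refine fun x hx => Subgroup.centralizer_le_normalizer _ (Subgroup.mem_centralizer_iff.2 fun k hk => ?_)
    have h1 : K ≤ Subgroup.centralizer ({x} : Set L) := sup_le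
      (fun y hy => Subgroup.mem_centralizer_singleton_iff.2 (Subgroup.mem_centralizer_iff.1 (hPD hx) y hy))
      (fun y hy => Subgroup.mem_centralizer_singleton_iff.2 (Subgroup.mem_centralizer_iff.1 (hPB hx) y hy))
    exact Subgroup.mem_centralizer_singleton_iff.1 (h1 hk)
  have hKN : K ≤ N := sup_le (cPart_le.trans (disp_le hNi)) (cPart_le.trans inf_le_left)
  have hfN : ∀ a ∈ B, a ∈ Subgroup.normalizer (K : Set L) := by
    intro a ha
    refine Subgroup.mem_normalizer_iff_map_conj_eq.2 ?_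
    rw [hK, Subgroup.map_sup, Subgroup.mem_normalizer_iff_map_conj_eq.1
      (normalizer_le_cPart (disp_normalized_fixed ha.2 (Subgroup.le_normalizer ha.1))),
      Subgroup.mem_normalizer_iff_map_conj_eq.1 (fixed_le_normalizer_of_le H (cPart_le.trans inf_le_right) ha.2)]
  have hdecomp : ∀ n ∈ N, ∃ w ∈ P, ∃ k ∈ K, n = w * k := by
    intro n hn
    obtain ⟨d, hd, a, haN, ha, rfl⟩ := exists_factor H.h4 H.hf hNi hn
    obtain ⟨u, v, rfl, hu, hv, huk, hvk⟩ := exists_split (p := p) d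
    obtain ⟨a₁, a₂, rfl, ha₁, ha₂, ha₁k, ha₂k⟩ := exists_split (p := p) a
    have hB₁ : a₁ ∈ B := (Subgroup.zpowers_le.2 (show a₁ * a₂ ∈ B from ⟨haN, ha⟩)) ha₁
    refine ⟨u * a₁, mul_mem (huP (Subgroup.subset_closure ⟨Subgroup.zpowers_le.2 hd hu, huk⟩))
      (mem_syl_of_fixed H hB₁.2 ha₁k), a₁⁻¹ * v * a₁ * a₂, mul_mem ?_ (le_sup_right (b := cPart p B)
        (Subgroup.subset_closure ⟨(Subgroup.zpowers_le.2 (show a₁ * a₂ ∈ B from ⟨haN, ha⟩)) ha₂, ha₂k⟩)), by group⟩
    have := (Subgroup.mem_normalizer_iff.1 (normalizer_le_cPart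
      (disp_normalized_fixed (inv_mem hB₁.2) (Subgroup.le_normalizer (inv_mem hB₁.1)))) v).1
      (Subgroup.subset_closure ⟨Subgroup.zpowers_le.2 hd hv, hvk⟩ : v ∈ cPart p D)
    rw [inv_inv] at this
    exact le_sup_left (a := cPart p D) this
  haveI : (K.subgroupOf N).Normal := by
    refine (Subgroup.normal_subgroupOf_iff_le_normalizer hKN).2 fun n hn => ?_
    obtain ⟨w, hw, k, hk, rfl⟩ := hdecomp n hn
    exact mul_mem (hPK hw) (Subgroup.le_normalizer hk)
  have hQ : Group.IsNilpotent (N ⧸ K.subgroupOf N) := by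
    have hQp : IsPGroup p (N ⧸ K.subgroupOf N) := by
      intro x
      obtain ⟨⟨n, hn⟩, rfl⟩ := QuotientGroup.mk_surjective x
      obtain ⟨w, hw, k, hk, rfl⟩ := hdecomp n hn
      obtain ⟨i, hi⟩ := isPGroup_syl H p ⟨w, hw⟩
      refine ⟨i, ?_⟩
      rw [show (⟨w * k, hn⟩ : N) = ⟨w, hPN hw⟩ * ⟨k, hKN hk⟩ from rfl, QuotientGroup.mk_mul,
        (QuotientGroup.eq_one_iff _).2 (Subgroup.mem_subgroupOf.2 (show ((⟨k, hKN hk⟩ : N) : L) ∈ K from hk)),
        mul_one, ← QuotientGroup.mk_pow, show (⟨w, hPN hw⟩ : N) ^ p ^ i = 1 from Subtype.ext (by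
          have := congrArg Subtype.val hi
          simpa using this), QuotientGroup.mk_one]
    exact hQp.isNilpotent
  refine hG.ne (eq_bot_iff.2 fun x hx => Subgroup.mem_bot.2 ?_)
  have hxK : x ∈ K := by
    obtain ⟨y, hy, rfl⟩ := sylow_le_of_quot H S hp2 N le_rfl _ hQ (hS.ge hx)
    exact Subgroup.mem_subgroupOf.1 hy
  have hBnorm : cPart p B ≤ Subgroup.normalizer (cPart p D : Set L) := fun b hb =>
    normalizer_le_cPart (disp_normalized_fixed (cPart_le hb).2 (Subgroup.le_normalizer (cPart_le hb).1))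
  have hm : x ∈ ((cPart p D : Set L) * (cPart p B : Set L)) := by
    rw [← Subgroup.coe_mul_of_right_le_normalizer_left _ _ hBnorm]
    exact hxK
  obtain ⟨v, hv, b, hb, rfl⟩ := hm
  exact mul_eq_one_of_coprime hvc hv (hBnorm hb) (hbc.coprime_dvd_left (Subgroup.orderOf_dvd_natCard _ hb))
    (isPGroup_syl H p) hx

theorem good_of_le {q : ℕ} [hq : Fact q.Prime] {S : Subgroup L} (hS : IsPGroup q S) (hSi : Inv σ S) (hS1 : S ≠ ⊥)
    (hSn : Fixed σ ≤ Subgroup.normalizer (S : Set L)) : Good σ q := by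
  by_cases hd : q ∣ Nat.card (Fixed σ)
  · exact good_of_dvd H hd
  refine ⟨hq.out, grow H hS hSi hS1 hSn, le_antisymm (disp_le (inv_syl H q)) ?_,
    fun e => hS1 (le_bot_iff.1 (e ▸ le_syl H hS hSi))⟩
  intro x hx
  obtain ⟨d, hd', a, haQ, ha, rfl⟩ := exists_factor H.h4 H.hf (inv_syl H q) hx
  suffices h : a = 1 by rw [h, mul_one]; exact hd'
  obtain ⟨i, hi⟩ := IsPGroup.iff_orderOf.1 (isPGroup_syl H q) ⟨a, haQ⟩
  rw [Subgroup.orderOf_mk] at hi
  rcases Nat.eq_zero_or_pos i with rfl | hi0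
  · rwa [pow_zero, orderOf_eq_one_iff] at hi
  · exact absurd (((dvd_pow_self q hi0.ne').trans hi.symm.dvd).trans ((Fixed σ).orderOf_dvd_natCard ha)) hd

/-- If the Sylow subgroup for a prime of the fixed points centralizes a part of another, it centralizes all of it. -/
theorem cmt_of_part {p q : ℕ} [hp : Fact p.Prime] [hq : Fact q.Prime] (hd : p ∣ Nat.card (Fixed σ))
    (hGq : Good σ q) (hpq : p ≠ q) {S : Subgroup L} (hS : S ≤ syl σ q) (hSd : disp σ S = S) (hS1 : S ≠ ⊥)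
    (hPS : Cmt (syl σ p) S) : Cmt (syl σ p) (syl σ q) := by
  have hGp := good_of_dvd H hd
  set P := syl σ p with hP
  set Q := syl σ q with hQ
  have hPi := inv_syl H p
  have hQi := inv_syl H q
  set C := Q ⊓ Subgroup.centralizer (P : Set L) with hC
  have hCi : Inv σ C := inv_inf hQi (inv_centralizer hPi)
  set T := disp σ C with hT
  have hTi : Inv σ T := inv_disp hCi
  have hST : S ≤ T := hSd ▸ disp_mono (le_inf hS hPS.symm.le_centralizer)
  have hT1 : T ≠ ⊥ := fun e => hS1 (le_bot_iff.1 (e ▸ hST))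
  have hTC : T ≤ C := disp_le hCi
  have hPT : Cmt P T := (cmt_of_le_centralizer (hTC.trans inf_le_right)).symm
  have hTq : IsPGroup q T := (isPGroup_syl H q).to_le (hTC.trans inf_le_left)
  set W := Q ⊓ Subgroup.normalizer (T : Set L) with hW
  have hWi : Inv σ W := inv_inf hQi (inv_normalizer hTi)
  have hWT : disp σ W ≤ T := by
    have h1 : Cmt P (disp σ W) := comm_of H (inv_normalizer hTi)
      (normalizer_ne_top H hTi hT1 (isPGroup_ne_top H hTq))
      (hPT.le_centralizer.trans (Subgroup.centralizer_le_normalizer _))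
      ((disp_le hWi).trans inf_le_right) hGp.disp_eq (disp_disp H.h4 H.hf hWi) (isPGroup_syl H p)
      ((isPGroup_syl H q).to_le ((disp_le hWi).trans inf_le_left)) hpq
    rw [← disp_disp H.h4 H.hf hWi]
    exact disp_mono (le_inf ((disp_le hWi).trans inf_le_left) h1.symm.le_centralizer)
  have hzQ : ∀ z ∈ P, z ∈ Fixed σ → z ∈ Subgroup.centralizer (Q : Set L) := by
    intro z hz hzF
    have hC' := CfsgLib.PCore.thompson_AxB (p := q) (A := T) (B := Subgroup.zpowers z) (K := Q) hTq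
      (by
        obtain ⟨i, hi⟩ := IsPGroup.iff_orderOf.1 (isPGroup_syl H p) ⟨z, hz⟩
        rw [Subgroup.orderOf_mk] at hi
        rw [Nat.card_zpowers, hi]
        exact Nat.Coprime.pow_left i ((Nat.coprime_primes hp.out hq.out).2 hpq))
      (isPGroup_syl H q)
      (fun t ht b hb => (hPT b (Subgroup.zpowers_le.2 hz hb) t ht).symm)
      ((hTC.trans inf_le_left).trans Subgroup.le_normalizer)
      (Subgroup.zpowers_le.2 (hGq.norm hzF))
      (Subgroup.zpowers_le.2 (Subgroup.mem_centralizer_iff.2 fun w hw => by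
        obtain ⟨d, hd', a, haW, ha, rfl⟩ := exists_factor H.h4 H.hf hWi
          (⟨hw.1, Subgroup.centralizer_le_normalizer _ hw.2⟩ : w ∈ W)
        have h1 : d * z = z * d := (hPT z hz d (hWT hd')).symm
        have h2 := fixed_comm' H ha hzF
        rw [mul_assoc, h2, ← mul_assoc, h1, mul_assoc]))
    exact hC' (Subgroup.mem_zpowers z)
  obtain ⟨z, hzF, hzo, hzP⟩ := exists_fixed_prime H hd
  have hz1 : z ≠ 1 := fun e => hp.out.ne_one (by rw [← hzo, e, orderOf_one])
  set Z := P ⊓ Subgroup.centralizer (P : Set L) with hZ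
  have hZi : Inv σ Z := inv_inf hPi (inv_centralizer hPi)
  have hQC : ∀ z ∈ P, z ∈ Fixed σ → Q ≤ Subgroup.centralizer ({z} : Set L) := fun z hz hzF x hx =>
    Subgroup.mem_centralizer_singleton_iff.2 (Subgroup.mem_centralizer_iff.1 (hzQ z hz hzF) x hx)
  by_cases hU : disp σ Z = ⊥
  · have hZF : Z ≤ Fixed σ := fun x hx => by
      have h1 := mem_disp (σ := σ) hx
      rw [hU, Subgroup.mem_bot, inv_mul_eq_one] at h1
      exact h1.symm
    obtain ⟨z', hz', -, hz'1⟩ := CfsgLib.ZJ.exists_pow_prime ((isPGroup_syl H p).to_le inf_le_left)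
      (CfsgLib.ZJ.center_inf_ne_bot (isPGroup_syl H p) hGp.ne)
    refine comm_of H (inv_centralizer_singleton H.hf (hZF hz')) (centralizer_singleton_ne_top H hz'1) ?_
      (hQC z' hz'.1 (hZF hz')) hGp.disp_eq hGq.disp_eq (isPGroup_syl H p) (isPGroup_syl H q) hpq
    exact fun x hx => Subgroup.mem_centralizer_singleton_iff.2 (Subgroup.mem_centralizer_iff.1 hz'.2 x hx)
  · set U := disp σ Z with hU'
    have hUZ : U ≤ Z := disp_le hZi
    have hUQ : Cmt U Q := comm_of H (inv_centralizer_singleton H.hf hzF) (centralizer_singleton_ne_top H hz1)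
      (fun x hx => Subgroup.mem_centralizer_singleton_iff.2
        (Subgroup.mem_centralizer_iff.1 (hUZ hx).2 z hzP).symm)
      (hQC z hzP hzF) (disp_disp H.h4 H.hf hZi) hGq.disp_eq
      ((isPGroup_syl H p).to_le (hUZ.trans inf_le_left)) (isPGroup_syl H q) hpq
    exact comm_of H (inv_centralizer (inv_disp hZi)) (centralizer_ne_top H hU)
      ((cmt_of_le_centralizer (hUZ.trans inf_le_right)).symm.le_centralizer) hUQ.symm.le_centralizer
      hGp.disp_eq hGq.disp_eq (isPGroup_syl H p) (isPGroup_syl H q) hpq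

theorem rel_trans {p q r : ℕ} (hp : Good σ p) (hq : Good σ q) (hr : Good σ r) (h1 : Rel σ p q) (h2 : Rel σ q r) :
    Rel σ p r := by
  haveI := Fact.mk hp.prime
  haveI := Fact.mk hq.prime
  haveI := Fact.mk hr.prime
  rcases h1 with e | h1
  · rwa [e]
  rcases h2 with e | h2
  · exact e ▸ Or.inr h1
  by_cases hpr : p = r
  · exact Or.inl hpr
  exact Or.inr (comm_of H (inv_centralizer (inv_syl H q)) (centralizer_ne_top H hq.ne) h1.le_centralizer
    h2.symm.le_centralizer hp.disp_eq hr.disp_eq (isPGroup_syl H p) (isPGroup_syl H r) hpr)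

/-- The fixed `p`-elements of order `p` form a cyclic group. -/
theorem fixed_prime_cyclic {p : ℕ} [hp : Fact p.Prime] {z z' : L} (hz : z ∈ Fixed σ) (hz' : z' ∈ Fixed σ)
    (hzo : orderOf z = p) (hzo' : orderOf z' = p) : z' ∈ Subgroup.zpowers z := by
  by_contra hne
  have hd : p ∣ Nat.card (Fixed σ) := hzo ▸ (Fixed σ).orderOf_dvd_natCard hz
  have hGp := good_of_dvd H hd
  set P := syl σ p with hP
  have hPi := inv_syl H p
  have hzP : z ∈ P := mem_syl_of_fixed H hz ⟨1, by rw [pow_one, hzo]⟩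
  have hzP' : z' ∈ P := mem_syl_of_fixed H hz' ⟨1, by rw [pow_one, hzo']⟩
  set F := P ⊓ Fixed σ with hF
  have hFi : Inv σ F := inv_inf hPi inv_fixed
  set C := P ⊓ Subgroup.centralizer (F : Set L) with hC
  have hCi : Inv σ C := inv_inf hPi (inv_centralizer hFi)
  have hCn : Fixed σ ≤ Subgroup.normalizer (C : Set L) := by
    intro a ha
    have hac : ∀ f ∈ F, a * f = f * a := fun f hf => fixed_comm' H ha hf.2
    refine Subgroup.mem_normalizer_iff.2 fun x => and_congr (Subgroup.mem_normalizer_iff.1 (hGp.norm ha) x) ?_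
    have hac' : a ∈ Subgroup.centralizer (F : Set L) := Subgroup.mem_centralizer_iff.2 fun f hf => (hac f hf).symm
    constructor
    · intro hx
      exact Subgroup.mul_mem _ (Subgroup.mul_mem _ hac' hx) (Subgroup.inv_mem _ hac')
    · intro hx
      have := mul_mem (mul_mem (inv_mem hac') hx) hac'
      simpa [mul_assoc] using this
  set U := disp σ C with hU
  have hU1 : U ≠ ⊥ := by
    intro hUb
    have hCF : C ≤ Fixed σ := fun x hx => by
      have h1 := mem_disp (σ := σ) hx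
      rw [← hU, hUb, Subgroup.mem_bot, inv_mul_eq_one] at h1
      exact h1.symm
    have hlt : F < P := lt_of_le_of_ne inf_le_left fun e => hGp.ne (by
      rw [← hGp.disp_eq]
      refine Subgroup.closure_eq_bot_iff.2 ?_
      rintro _ ⟨x, hx, rfl⟩
      have : σ (σ x) = x := (e.ge hx).2
      simp [this])
    haveI : Group.IsNilpotent ↥P := (isPGroup_syl H p).isNilpotent
    have h2 := Group.normalizerCondition_of_isNilpotent (F.subgroupOf P)
      (lt_top_iff_ne_top.2 fun h => hlt.not_ge (Subgroup.subgroupOf_eq_top.1 h))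
    obtain ⟨⟨n, hnP⟩, hn, hnF⟩ := SetLike.exists_of_lt h2
    have hd' : n⁻¹ * σ (σ n) ∈ C := by
      refine ⟨Subgroup.mul_mem _ (Subgroup.inv_mem _ hnP) (hPi _ (hPi _ hnP)), Subgroup.mem_centralizer_iff.2 fun f hf => ?_⟩
      have h1 : n * f * n⁻¹ ∈ F := ((Subgroup.mem_normalizer_iff.1 hn) ⟨f, hf.1⟩).1 hf
      have h2 : σ (σ n) * f * (σ (σ n))⁻¹ = n * f * n⁻¹ := by
        have := mem_fixed.1 h1.2
        simpa only [map_mul, map_inv, mem_fixed.1 hf.2] using this
      calc f * (n⁻¹ * σ (σ n)) = n⁻¹ * (n * f * n⁻¹) * σ (σ n) := by group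
        _ = n⁻¹ * (σ (σ n) * f * (σ (σ n))⁻¹) * σ (σ n) := by rw [h2]
        _ = _ := by group
    have h3 : σ (σ (n⁻¹ * σ (σ n))) = n⁻¹ * σ (σ n) := hCF hd'
    have h4 : σ (σ (σ (σ n))) = n := DFunLike.congr_fun H.h4 n
    rw [map_mul, map_mul, map_inv, map_inv, h4] at h3
    have h5 : (n⁻¹ * σ (σ n)) * (n⁻¹ * σ (σ n)) = 1 := by
      nth_rw 1 [← h3]; group
    have h6 : n⁻¹ * σ (σ n) = 1 := by
      rw [← pow_two] at h5
      exact orderOf_eq_one_iff.1 (Nat.eq_one_of_dvd_coprimes (Nat.coprime_two_right.2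
        ((CfsgLib.FpfFour.odd_card σ H.h4 H.hf).of_dvd_nat (orderOf_dvd_natCard _))) dvd_rfl
        (orderOf_dvd_of_pow_eq_one h5))
    exact hnF ⟨hnP, (inv_mul_eq_one.1 h6).symm⟩
  have hUd : disp σ U = U := disp_disp H.h4 H.hf hCi
  have hUP : U ≤ P := (disp_le hCi).trans inf_le_left
  have hUn : Fixed σ ≤ Subgroup.normalizer (U : Set L) := fun a ha => disp_normalized_fixed ha (hCn ha)
  have hUi : Inv σ U := inv_disp hCi
  set E := Subgroup.closure ({z, z'} : Set L) with hE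
  have hEF : E ≤ F := (Subgroup.closure_le _).2 (by
    rintro x (rfl | rfl) <;> first | exact ⟨hzP, hz⟩ | exact ⟨hzP', hz'⟩)
  haveI : IsMulCommutative E := ⟨⟨fun a b => Subtype.ext (fixed_comm' H (hEF a.2).2 (hEF b.2).2)⟩⟩
  have hEnc : ¬ IsCyclic E := by
    intro hcyc
    have hm : z ∈ E := Subgroup.subset_closure (Set.mem_insert _ _)
    have hm' : z' ∈ E := Subgroup.subset_closure (Set.mem_insert_of_mem _ rfl)
    have h1 : Subgroup.zpowers (⟨z, hm⟩ : E) = Subgroup.zpowers (⟨z', hm'⟩ : E) := by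
      haveI := hcyc
      exact CfsgLib.RankOneP.zpowers_eq_of_orderOf_eq (by rw [Subgroup.orderOf_mk, Subgroup.orderOf_mk, hzo, hzo'])
    have h2 : (⟨z', hm'⟩ : E) ∈ Subgroup.zpowers (⟨z, hm⟩ : E) := h1 ▸ Subgroup.mem_zpowers _
    obtain ⟨i, hi⟩ := h2
    exact hne ⟨i, by simpa using congrArg Subtype.val hi⟩
  have hUQ : ∀ q : ℕ, Good σ q → q ≠ p → Cmt U (syl σ q) := by
    intro q hGq hqp
    haveI := Fact.mk hGq.prime
    have hQi := inv_syl H q
    have hQN : syl σ q ≤ Subgroup.normalizer (U : Set L) := by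
      refine CfsgLib.CoprimeAction.le_of_centralizers_le hEnc (fun e he => hGq.norm (hEF he).2) ?_ ?_
      · obtain ⟨i, hi⟩ := IsPGroup.iff_card.1 ((isPGroup_syl H p).to_le (hEF.trans inf_le_left))
        obtain ⟨j, hj⟩ := IsPGroup.iff_card.1 (isPGroup_syl H q)
        rw [hi, hj]
        exact Nat.Coprime.pow _ _ ((Nat.coprime_primes hp.out hGq.prime).2 (Ne.symm hqp))
      · intro e he he1 x hx
        set Y := syl σ q ⊓ Subgroup.centralizer ({e} : Set L) with hY
        have hYi : Inv σ Y := inv_inf hQi (inv_centralizer_singleton H.hf (hEF he).2)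
        obtain ⟨d, hd', a, haY, ha, rfl⟩ := exists_factor H.h4 H.hf hYi hx
        refine mul_mem ?_ (hUn ha)
        have hc : Cmt U (disp σ Y) := comm_of H (inv_centralizer_singleton H.hf (hEF he).2)
          (centralizer_singleton_ne_top H he1)
          (fun u hu => Subgroup.mem_centralizer_singleton_iff.2
            (Subgroup.mem_centralizer_iff.1 ((disp_le hCi) hu).2 e (hEF he)).symm)
          ((disp_le hYi).trans inf_le_right) hUd (disp_disp H.h4 H.hf hYi) ((isPGroup_syl H p).to_le hUP)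
          ((isPGroup_syl H q).to_le ((disp_le hYi).trans inf_le_left)) (Ne.symm hqp)
        exact Subgroup.centralizer_le_normalizer _ (hc.symm.le_centralizer hd')
    exact comm_of H (inv_normalizer hUi) (normalizer_ne_top H hUi hU1 (isPGroup_ne_top H ((isPGroup_syl H p).to_le hUP)))
      Subgroup.le_normalizer hQN hUd hGq.disp_eq ((isPGroup_syl H p).to_le hUP) (isPGroup_syl H q) (Ne.symm hqp)
  refine single_class_false H hd fun q hq hqd hqp => ?_
  haveI := Fact.mk hq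
  exact (cmt_of_part H hqd hGp hqp hUP hUd hU1 (hUQ q (good_of_dvd H hqd) hqp).symm).symm

/-- A fixed `p`-element centralizing a part of the invariant `q`-Sylow subgroup links the primes. -/
theorem rel_of_centralizes {p q : ℕ} [hp : Fact p.Prime] [hq : Fact q.Prime] {z : L} (hz : z ∈ Fixed σ)
    (hzo : orderOf z = p) {S : Subgroup L} (hSq : IsPGroup q S) (hSi : Inv σ S) (hSd : disp σ S = S) (hS1 : S ≠ ⊥)
    (hSn : Fixed σ ≤ Subgroup.normalizer (S : Set L)) (hzS : S ≤ Subgroup.centralizer ({z} : Set L)) :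
    Rel σ p q := by
  by_cases hpq : p = q
  · exact Or.inl hpq
  have hd : p ∣ Nat.card (Fixed σ) := hzo ▸ (Fixed σ).orderOf_dvd_natCard hz
  have hz1 : z ≠ 1 := fun e => hp.out.ne_one (by rw [← hzo, e, orderOf_one])
  have hGp := good_of_dvd H hd
  set P := syl σ p with hP
  have hPi := inv_syl H p
  set Z := P ⊓ Subgroup.centralizer (P : Set L) with hZ
  have hZi : Inv σ Z := inv_inf hPi (inv_centralizer hPi)
  have hzP : z ∈ P := mem_syl_of_fixed H hz ⟨1, by rw [pow_one, hzo]⟩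
  refine Or.inr (cmt_of_part H hd (good_of_le H hSq hSi hS1 hSn) hpq (le_syl H hSq hSi) hSd hS1 ?_)
  by_cases hU : disp σ Z = ⊥
  · have hZF : Z ≤ Fixed σ := fun x hx => by
      have h1 := mem_disp (σ := σ) hx
      rw [hU, Subgroup.mem_bot, inv_mul_eq_one] at h1
      exact h1.symm
    obtain ⟨z', hz', hz'p, hz'1⟩ := CfsgLib.ZJ.exists_pow_prime ((isPGroup_syl H p).to_le inf_le_left)
      (CfsgLib.ZJ.center_inf_ne_bot (isPGroup_syl H p) hGp.ne)
    have hzc := fixed_prime_cyclic H (hZF hz') hz (orderOf_eq_prime hz'p hz'1) hzo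
    have hzZ : z ∈ Z := Subgroup.zpowers_le.2 hz' hzc
    exact comm_of H (inv_centralizer_singleton H.hf hz) (centralizer_singleton_ne_top H hz1)
      (fun x hx => Subgroup.mem_centralizer_singleton_iff.2 (Subgroup.mem_centralizer_iff.1 hzZ.2 x hx))
      hzS hGp.disp_eq hSd (isPGroup_syl H p) hSq hpq
  · set U := disp σ Z with hU'
    have hUZ : U ≤ Z := disp_le hZi
    have hUS : Cmt U S := comm_of H (inv_centralizer_singleton H.hf hz) (centralizer_singleton_ne_top H hz1)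
      (fun x hx => Subgroup.mem_centralizer_singleton_iff.2
        (Subgroup.mem_centralizer_iff.1 (hUZ hx).2 z hzP).symm)
      hzS (disp_disp H.h4 H.hf hZi) hSd ((isPGroup_syl H p).to_le (hUZ.trans inf_le_left)) hSq hpq
    exact comm_of H (inv_centralizer (inv_disp hZi)) (centralizer_ne_top H hU)
      ((cmt_of_le_centralizer (hUZ.trans inf_le_right)).symm.le_centralizer) hUS.symm.le_centralizer
      hGp.disp_eq hSd (isPGroup_syl H p) hSq hpq

/-- The prime divisors of the order of a fixed element with a large centralizer are related. -/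
theorem rel_of_bad {a x : L} (ha : a ∈ Fixed σ) (ha1 : a ≠ 1) (hx : x * a = a * x) (hxF : x ∉ Fixed σ)
    {p r : ℕ} (hp : p.Prime) (hr : r.Prime) (hpa : p ∣ orderOf a) (hra : r ∣ orderOf a) : Rel σ p r := by
  haveI := Fact.mk hp
  haveI := Fact.mk hr
  set X := Subgroup.centralizer ({a} : Set L) with hX
  have hXi : Inv σ X := inv_centralizer_singleton H.hf ha
  have hFX : Fixed σ ≤ X := fun b hb => Subgroup.mem_centralizer_singleton_iff.2 (fixed_comm' H hb ha)
  set D := disp σ X with hD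
  have hDi : Inv σ D := inv_disp hXi
  have hxX : x ∈ X := Subgroup.mem_centralizer_singleton_iff.2 hx
  obtain ⟨y, hy, q, k, hq, hk, hyF⟩ : ∃ y ∈ D, ∃ q k : ℕ, q.Prime ∧ orderOf y = q ^ k ∧ y ∉ Fixed σ := by
    by_contra hno
    push Not at hno
    have hDF : D ≤ Fixed σ := fun d hd => mem_of_prime_powers _ d fun y hy ⟨q, k, hq, hk⟩ =>
      hno y (Subgroup.zpowers_le.2 hd hy) q k hq hk
    apply hxF
    have h1 : D = ⊥ := by
      rw [hD, ← disp_disp H.h4 H.hf hXi]
      refine Subgroup.closure_eq_bot_iff.2 ?_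
      rintro _ ⟨d, hd, rfl⟩
      simp [mem_fixed.1 (hDF hd)]
    obtain ⟨d, hd, b, -, hb, rfl⟩ := exists_factor H.h4 H.hf hXi hxX
    rw [← hD, h1, Subgroup.mem_bot] at hd
    rw [hd, one_mul]
    exact hb
  haveI := Fact.mk hq
  obtain ⟨hup, -, -⟩ := parts (p := q) (disp_nilpotent H.h4 H.hf hXi (H.sol X hXi (centralizer_singleton_ne_top H ha1)))
  set R := pPart q D with hR
  have hRi : Inv σ R := inv_pPart hDi
  set S := disp σ R with hS
  have hSn : Fixed σ ≤ Subgroup.normalizer (S : Set L) := fun b hb => disp_normalized_fixed hb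
    (normalizer_le_pPart (disp_normalized_fixed hb (Subgroup.le_normalizer (hFX hb))))
  have hS1 : S ≠ ⊥ := fun e => hyF (by
    have h1 := mem_disp (σ := σ) (Subgroup.subset_closure ⟨hy, k, hk⟩ : y ∈ R)
    rw [show disp σ (Subgroup.closure {x | x ∈ D ∧ ∃ k, orderOf x = q ^ k}) = S from rfl, e, Subgroup.mem_bot,
      inv_mul_eq_one] at h1
    exact h1.symm)
  have hkey : ∀ s : ℕ, s.Prime → s ∣ orderOf a → Good σ s ∧ Rel σ s q := by
    intro s hs hsa
    haveI := Fact.mk hs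
    have hzF : a ^ (orderOf a / s) ∈ Fixed σ := pow_mem ha _
    have hzo : orderOf (a ^ (orderOf a / s)) = s := orderOf_pow_orderOf_div (orderOf_pos a).ne' hsa
    refine ⟨good_of_dvd H (hsa.trans ((Fixed σ).orderOf_dvd_natCard ha)), rel_of_centralizes H hzF hzo
      (hup.to_le (disp_le hRi)) (inv_disp hRi) (disp_disp H.h4 H.hf hRi) hS1 hSn ?_⟩
    intro w hw
    have hwX : w ∈ X := disp_le hXi (pPart_le (disp_le hRi hw))
    exact Subgroup.mem_centralizer_singleton_iff.2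
      ((show Commute w a from Subgroup.mem_centralizer_singleton_iff.1 hwX).pow_right _)
  obtain ⟨g1, r1⟩ := hkey p hp hpa
  obtain ⟨g2, r2⟩ := hkey r hr hra
  exact rel_trans H g1 (good_of_le H (hup.to_le (disp_le hRi)) (inv_disp hRi) hS1 hSn) g2 r1 r2.symm

/-- The fixed points split into two proper subgroups containing all elements with a large centralizer. -/
theorem exists_cover : ∃ B₁ B₂ : Subgroup L, B₁ ≤ Fixed σ ∧ B₂ ≤ Fixed σ ∧ B₁ ≠ Fixed σ ∧ B₂ ≠ Fixed σ ∧
    Fixed σ ≤ B₁ ⊔ B₂ ∧ ∀ a ∈ Fixed σ, a ∉ B₁ → a ∉ B₂ → ∀ x, x * a = a * x → x ∈ Fixed σ := by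
  obtain ⟨p, hp, hpd⟩ := Nat.exists_prime_and_dvd (fun e => fixed_ne_bot H (Subgroup.eq_bot_of_card_eq _ e))
  haveI := Fact.mk hp
  obtain ⟨r, hr, hrd, hrp, hrel⟩ : ∃ r : ℕ, r.Prime ∧ r ∣ Nat.card (Fixed σ) ∧ r ≠ p ∧ ¬ Rel σ p r := by
    by_contra hno
    push Not at hno
    exact single_class_false H hpd fun q hq hqd hqp => (hno q hq hqd hqp).resolve_left (Ne.symm hqp)
  haveI := Fact.mk hr
  let mk : (ℕ → Prop) → Subgroup L := fun Φ =>
    { carrier := {a | a ∈ Fixed σ ∧ ∀ s : ℕ, s.Prime → s ∣ orderOf a → Φ s}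
      one_mem' := ⟨one_mem _, fun s hs h => absurd (Nat.dvd_one.1 (orderOf_one (G := L) ▸ h)) hs.ne_one⟩
      mul_mem' := fun {a b} ha hb => ⟨mul_mem ha.1 hb.1, fun s hs h => by
        have h1 := (h.trans (show Commute a b from fixed_comm' H ha.1 hb.1).orderOf_mul_dvd_lcm).trans
          (Nat.lcm_dvd_mul _ _)
        exact (hs.dvd_mul.1 h1).elim (ha.2 s hs) (hb.2 s hs)⟩
      inv_mem' := fun {a} ha => ⟨inv_mem ha.1, by simpa using ha.2⟩ }
  refine ⟨mk (fun s => Rel σ p s), mk (fun s => ¬ Rel σ p s), fun a ha => ha.1, fun a ha => ha.1, ?_, ?_, ?_, ?_⟩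
  · intro e
    obtain ⟨z, hz, hzo, -⟩ := exists_fixed_prime H hrd
    exact hrel ((e.ge hz).2 r hr (hzo ▸ dvd_rfl))
  · intro e
    obtain ⟨z, hz, hzo, -⟩ := exists_fixed_prime H hpd
    exact (e.ge hz).2 p hp (hzo ▸ dvd_rfl) (Or.inl rfl)
  · intro a ha
    refine mem_of_prime_powers _ a fun y hy ⟨q, k, hq, hk⟩ => ?_
    have hyF : y ∈ Fixed σ := Subgroup.zpowers_le.2 ha hy
    have hs : ∀ s : ℕ, s.Prime → s ∣ orderOf y → s = q := fun s hs h =>
      (Nat.prime_dvd_prime_iff_eq hs hq).1 (hs.dvd_of_dvd_pow (hk ▸ h))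
    by_cases hq' : Rel σ p q
    · exact Subgroup.mem_sup_left ⟨hyF, fun s h1 h2 => (hs s h1 h2).symm ▸ hq'⟩
    · exact Subgroup.mem_sup_right ⟨hyF, fun s h1 h2 => (hs s h1 h2).symm ▸ hq'⟩
  · intro a ha h1 h2 x hx
    by_contra hxF
    obtain ⟨s, hs, hsa, hns⟩ : ∃ s : ℕ, s.Prime ∧ s ∣ orderOf a ∧ ¬ Rel σ p s := by
      by_contra h; push Not at h; exact h1 ⟨ha, h⟩
    obtain ⟨t, ht, hta, hpt⟩ : ∃ t : ℕ, t.Prime ∧ t ∣ orderOf a ∧ Rel σ p t := by
      by_contra h; push Not at h; exact h2 ⟨ha, h⟩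
    have ha1 : a ≠ 1 := fun e => hs.ne_one (Nat.dvd_one.1 (by rwa [e, orderOf_one] at hsa))
    haveI := Fact.mk hs
    haveI := Fact.mk ht
    have hF : ∀ u : ℕ, u ∣ orderOf a → u ∣ Nat.card (Fixed σ) := fun u hu =>
      hu.trans ((Fixed σ).orderOf_dvd_natCard ha)
    exact hns (rel_trans H (good_of_dvd H hpd) (good_of_dvd H (hF t hta)) (good_of_dvd H (hF s hsa)) hpt
      (rel_of_bad H ha ha1 hx hxF ht hs hta hsa))

end CfsgLib.GHFour
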