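import Mathlib
import Cfsg.Agent.GHFour.Local
import Cfsg.Agent.GHFour.Chars

/-! The theorem of Gorenstein and Herstein: a finite group with a fixed-point-free automorphism of order dividing
four is solvable. -/

set_option autoImplicit false
set_option linter.unusedSectionVars false
set_option linter.style.haveILetI false

namespace CfsgLib.GHFour

universe u

variable {L : Type u} [Group L] [Finite L] {σ : MulAut L}

theorem false_of_hyp (H : Hyp σ) : False := by
  classical
  set τ : MulAut L := σ * σ with hτ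
  have hτa : ∀ x, τ x = σ (σ x) := fun _ => rfl
  have hττ : τ * τ = 1 := by rw [hτ]; exact MulEquiv.ext fun x => DFunLike.congr_fun H.h4 x
  have hτ1 : τ ≠ 1 := fun e => fixed_ne_top H (eq_top_iff.2 fun x _ =>
    (DFunLike.congr_fun e x : σ (σ x) = x))
  have hodd := CfsgLib.FpfFour.odd_card σ H.h4 H.hf
  set C := Subgroup.zpowers τ with hC
  haveI : Finite C := inferInstance
  let φ : C →* MulAut L := C.subtype
  haveI : Finite (L ⋊[φ] C) := Finite.of_equiv _ SemidirectProduct.equivProd.symm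
  let Lr : Subgroup (L ⋊[φ] C) := (SemidirectProduct.inl : L →* (L ⋊[φ] C)).range
  let c₀ : C := ⟨τ, Subgroup.mem_zpowers τ⟩
  let t : (L ⋊[φ] C) := SemidirectProduct.inr c₀
  have hcard : Nat.card C = 2 := by
    rw [hC, Nat.card_zpowers]
    exact orderOf_eq_prime (by rw [pow_two]; exact hττ) hτ1
  have hLcard : Nat.card Lr = Nat.card L :=
    (Nat.card_congr (MonoidHom.ofInjective (f := (SemidirectProduct.inl : L →* (L ⋊[φ] C)))
      SemidirectProduct.inl_injective).toEquiv).symm
  have hidx : Lr.index = 2 := by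
    have h := Lr.card_mul_index
    rw [hLcard, show Nat.card (L ⋊[φ] C) = Nat.card L * Nat.card C by
      rw [← Nat.card_prod]; exact Nat.card_congr SemidirectProduct.equivProd, hcard] at h
    exact Nat.eq_of_mul_eq_mul_left Nat.card_pos h
  have hperf : ⁅Lr, Lr⁆ = Lr := by
    change ⁅(SemidirectProduct.inl : L →* (L ⋊[φ] C)).range, (SemidirectProduct.inl : L →* (L ⋊[φ] C)).range⁆ = _
    rw [MonoidHom.range_eq_map, ← Subgroup.map_commutator, ← commutator_def, H.perf, ← MonoidHom.range_eq_map]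
  have htL : t ∉ Lr := by
    rintro ⟨l, hl⟩
    have h := congrArg SemidirectProduct.rightHom hl
    simp only [t, SemidirectProduct.rightHom_inl, SemidirectProduct.rightHom_inr] at h
    exact hτ1 (congrArg Subtype.val h).symm
  have ht2 : t * t = 1 := by
    simp only [t, ← map_mul]
    rw [show c₀ * c₀ = 1 from Subtype.ext hττ, map_one]
  -- the centralizer of `t`
  have hmem : ∀ g : (L ⋊[φ] C), g * t = t * g ↔ g.left ∈ Fixed σ := by
    intro g
    rw [SemidirectProduct.ext_iff]
    simp only [SemidirectProduct.mul_left, SemidirectProduct.mul_right, t, SemidirectProduct.left_inr,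
      SemidirectProduct.right_inr, map_one, mul_one, one_mul]
    refine ⟨fun h => ?_, fun h => ⟨?_, ?_⟩⟩
    · exact (h.1 : g.left = τ g.left).symm
    · exact (mem_fixed.1 h : σ (σ g.left) = g.left).symm
    · obtain ⟨i, hi⟩ := Subgroup.mem_zpowers_iff.1 g.right.2
      exact Subtype.ext (by
        change (g.right : MulAut L) * τ = τ * g.right
        rw [← hi]; exact (Commute.zpow_self τ i).eq)
  set K := Subgroup.centralizer ({t} : Set (L ⋊[φ] C)) with hK
  have hKm : ∀ g, g ∈ K ↔ g * t = t * g := fun g => Subgroup.mem_centralizer_singleton_iff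
  have hKF : ∀ g ∈ K, g.left ∈ Fixed σ := fun g hg => (hmem g).1 ((hKm g).1 hg)
  have hφfix : ∀ (c : C) (a : L), a ∈ Fixed σ → φ c a = a := by
    intro c a ha
    have h1 : τ ∈ MulAction.stabilizer (MulAut L) a := mem_fixed.1 ha
    have h2 := (Subgroup.zpowers_le.2 h1) c.2
    exact h2
  have hKmul : ∀ g ∈ K, ∀ h ∈ K, (g * h).left = g.left * h.left := fun g hg h hh => by
    rw [SemidirectProduct.mul_left, hφfix _ _ (hKF h hh)]
  have hKcomm : ∀ g ∈ K, ∀ h ∈ K, g * h = h * g := by
    intro g hg h hh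
    refine SemidirectProduct.ext ?_ ?_
    · rw [hKmul g hg h hh, hKmul h hh g hg]; exact fixed_comm' H (hKF g hg) (hKF h hh)
    · obtain ⟨i, hi⟩ := Subgroup.mem_zpowers_iff.1 g.right.2
      obtain ⟨j, hj⟩ := Subgroup.mem_zpowers_iff.1 h.right.2
      exact Subtype.ext (by
        change (g.right : MulAut L) * h.right = h.right * g.right
        rw [← hi, ← hj]; exact (Commute.zpow_zpow_self τ i j).eq)
  let π : K →* Fixed σ :=
    { toFun := fun g => ⟨(g : L ⋊[φ] C).left, hKF g g.2⟩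
      map_one' := Subtype.ext rfl
      map_mul' := fun g h => Subtype.ext (hKmul g g.2 h h.2) }
  have hπ : Function.Surjective π := by
    intro a
    exact ⟨⟨SemidirectProduct.inl (a : L), (hKm _).2 ((hmem _).2 (by simp))⟩, Subtype.ext (by simp [π])⟩
  -- the linear characters
  obtain ⟨B₁, B₂, hB₁, hB₂, hne₁, hne₂, hcov, hbad⟩ := exists_cover H
  letI : CommGroup (Fixed σ) :=
    { (inferInstance : Group (Fixed σ)) with mul_comm := fun a b => Subtype.ext (fixed_comm' H a.2 b.2) }
  have hchar : ∀ B : Subgroup L, B ≤ Fixed σ → B ≠ Fixed σ →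
      ∃ l : Fixed σ →* ℂˣ, l ≠ 1 ∧ ∀ a : Fixed σ, (a : L) ∈ B → l a = 1 := by
    intro B hB hBne
    obtain ⟨a, ha, haB⟩ := SetLike.exists_of_lt (lt_of_le_of_ne hB hBne)
    have h0 : ((⟨a, ha⟩ : Fixed σ) : Fixed σ ⧸ B.subgroupOf (Fixed σ)) ≠ 1 := fun e =>
      haB (Subgroup.mem_subgroupOf.1 ((QuotientGroup.eq_one_iff _).1 e))
    obtain ⟨l, hl⟩ := CommGroup.exists_apply_ne_one_of_hasEnoughRootsOfUnity
      (Fixed σ ⧸ B.subgroupOf (Fixed σ)) ℂ h0
    refine ⟨l.comp (QuotientGroup.mk' _), fun e => hl (DFunLike.congr_fun e ⟨a, ha⟩), fun x hx => ?_⟩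
    rw [MonoidHom.comp_apply, QuotientGroup.mk'_apply,
      (QuotientGroup.eq_one_iff x).2 (Subgroup.mem_subgroupOf.2 hx), map_one]
  obtain ⟨l, hl, hlB⟩ := hchar B₁ hB₁ hne₁
  obtain ⟨m, hm, hmB⟩ := hchar B₂ hB₂ hne₂
  have htriv : ∀ f : Fixed σ →* ℂˣ, (∀ a : Fixed σ, (a : L) ∈ B₁ → f a = 1) →
      (∀ a : Fixed σ, (a : L) ∈ B₂ → f a = 1) → f = 1 := by
    intro f h1 h2
    have hle : B₁ ⊔ B₂ ≤ f.ker.map (Fixed σ).subtype :=
      sup_le (fun x hx => ⟨⟨x, hB₁ hx⟩, h1 _ hx, rfl⟩) (fun x hx => ⟨⟨x, hB₂ hx⟩, h2 _ hx, rfl⟩)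
    ext a
    obtain ⟨b, hb, e⟩ := hle (hcov a.2)
    rw [show a = b from Subtype.ext e.symm, MonoidHom.mem_ker.1 hb, MonoidHom.one_apply]
  have hlm : l ≠ m := fun e => hl (htriv l hlB (fun a ha => by rw [e]; exact hmB a ha))
  have hlm2 : l * m ≠ 1 := fun e => hl (htriv l hlB fun a ha => by
    have := DFunLike.congr_fun e a
    rwa [MonoidHom.mul_apply, hmB a ha, mul_one, MonoidHom.one_apply] at this)
  have hinj : ∀ f g : Fixed σ →* ℂˣ, f.comp π = g.comp π → f = g := fun f g e =>
    MonoidHom.ext fun a => by obtain ⟨b, rfl⟩ := hπ a; exact DFunLike.congr_fun e b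
  have hπt : π ⟨t, (hKm t).2 rfl⟩ = 1 := Subtype.ext rfl
  refine false_of_data Lr hidx (by rw [hLcard]; exact hodd) hperf t htL ht2 K hKm hKcomm (l.comp π) (m.comp π)
    (by rw [MonoidHom.comp_apply, hπt, map_one]) (by rw [MonoidHom.comp_apply, hπt, map_one])
    (fun e => hl (hinj _ _ (e.trans (MonoidHom.one_comp π).symm)))
    (fun e => hm (hinj _ _ (e.trans (MonoidHom.one_comp π).symm)))
    (fun e => hlm (hinj _ _ e))
    (fun e => hlm2 (hinj _ _ (by rw [MonoidHom.mul_comp, e, MonoidHom.one_comp]))) ?_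
  intro h h1 h2 g hg
  set a := (h : L ⋊[φ] C).left with ha
  have haF : a ∈ Fixed σ := hKF h h.2
  have ha1 : a ∉ B₁ := fun hh => h1 (hlB _ hh)
  have ha2 : a ∉ B₂ := fun hh => h2 (hmB _ hh)
  have hCa : ∀ x, x * a = a * x → x ∈ Fixed σ := hbad a haF ha1 ha2
  -- a power of `h` is `a`
  obtain ⟨k, hk⟩ := exists_pow_eq_self_of_coprime (x := a) (n := 2)
    (Nat.coprime_two_left.2 (Odd.of_dvd_nat hodd (orderOf_dvd_natCard a)))
  have hh2 : (h : L ⋊[φ] C) ^ 2 = SemidirectProduct.inl (a ^ 2) := by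
    refine SemidirectProduct.ext ?_ ?_
    · rw [pow_two, pow_two, hKmul h h.2 h h.2, SemidirectProduct.left_inl]
    · rw [pow_two, SemidirectProduct.mul_right, SemidirectProduct.right_inl]
      obtain ⟨i, hi⟩ := Subgroup.mem_zpowers_iff.1 (h : L ⋊[φ] C).right.2
      exact Subtype.ext (by
        change ((h : L ⋊[φ] C).right : MulAut L) * (h : L ⋊[φ] C).right = 1
        rw [← hi, ← zpow_add, ← two_mul, zpow_mul, zpow_two, hττ, one_zpow])
  have hmem' : g * SemidirectProduct.inl a * g⁻¹ ∈ K := by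
    have h3 := pow_mem hg (2 * k)
    rwa [conj_pow, pow_mul, hh2, ← map_pow, hk] at h3
  rw [hKm, hmem]
  have hgl : (g * SemidirectProduct.inl a * g⁻¹).left = g.left * a * g.left⁻¹ := by
    simp [SemidirectProduct.mul_left, SemidirectProduct.inv_left, hφfix _ a haF]
  have hla : g.left * a * g.left⁻¹ ∈ Fixed σ := hgl ▸ hKF _ hmem'
  set x := g.left
  have hd : x⁻¹ * σ (σ x) ∈ Fixed σ := by
    refine hCa _ ?_
    have h3 := mem_fixed.1 hla
    rw [map_mul, map_mul, map_mul, map_mul, map_inv, map_inv, mem_fixed.1 haF] at h3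
    calc x⁻¹ * σ (σ x) * a = x⁻¹ * (σ (σ x) * a * (σ (σ x))⁻¹) * σ (σ x) := by group
      _ = a * (x⁻¹ * σ (σ x)) := by rw [h3]; group
  have h4 : σ (σ (σ (σ x))) = x := DFunLike.congr_fun H.h4 x
  have h5 := mem_fixed.1 hd
  rw [map_mul, map_mul, map_inv, map_inv, h4] at h5
  have h6 : (x⁻¹ * σ (σ x)) ^ 2 = 1 := by
    rw [pow_two]; nth_rw 1 [← h5]; group
  have h7 : x⁻¹ * σ (σ x) = 1 := orderOf_eq_one_iff.1 (Nat.eq_one_of_dvd_coprimes (Nat.coprime_two_right.2
    (hodd.of_dvd_nat (orderOf_dvd_natCard _))) dvd_rfl (orderOf_dvd_of_pow_eq_one h6))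
  exact (inv_mul_eq_one.1 h7).symm

theorem isSolvable_aux (n : ℕ) : ∀ (G : Type u) [Group G] [Finite G], Nat.card G = n →
    ∀ σ : MulAut G, σ ^ 4 = 1 → (∀ g, σ g = g → g = 1) → Group.IsSolvable G := by
  induction n using Nat.strong_induction_on with
  | _ n ih =>
  intro G _ _ hn σ h4 hf
  subst hn
  by_contra hns
  have hsub : ∀ X : Subgroup G, Inv σ X → X ≠ ⊤ → Group.IsSolvable X := by
    intro X hX hXne
    let σX : MulAut X :=
      { toFun := fun x => ⟨σ (x : G), hX x x.2⟩
        invFun := fun x => ⟨σ.symm (x : G), hX.symm_mem (by rw [MulEquiv.apply_symm_apply]; exact x.2)⟩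
        left_inv := fun x => Subtype.ext (σ.symm_apply_apply (x : G))
        right_inv := fun x => Subtype.ext (σ.apply_symm_apply (x : G))
        map_mul' := fun x y => Subtype.ext (map_mul σ (x : G) y) }
    refine ih _ (lt_of_le_of_ne (Subgroup.card_le_card_group X) fun e => hXne (Subgroup.card_eq_iff_eq_top X |>.1 e))
      X rfl σX (MulEquiv.ext fun x => Subtype.ext (DFunLike.congr_fun h4 (x : G))) fun x hx => Subtype.ext ?_
    exact hf x (congrArg Subtype.val hx)
  have hext : ∀ (N : Subgroup G) [N.Normal], Inv σ N → N ≠ ⊤ → Group.IsSolvable (G ⧸ N) → False := by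
    intro N _ hNi hNt hq
    haveI := hsub N hNi hNt
    exact hns (Group.isSolvable_of_ker_le_range N.subtype (QuotientGroup.mk' N)
      (by rw [QuotientGroup.ker_mk', Subgroup.range_subtype]))
  haveI : Nontrivial G := by
    by_contra h
    haveI := not_nontrivial_iff_subsingleton.1 h
    exact hns inferInstance
  refine false_of_hyp ⟨h4, hf, ?_, inferInstance, hsub, ?_⟩
  · by_contra h
    haveI : Group.IsSolvable (G ⧸ commutator G) :=
      Group.isSolvable_of_comm fun a b => @mul_comm (Abelianization G) _ a b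
    refine hext (commutator G) (fun x hx => ?_) h inferInstance
    exact (Subgroup.characteristic_iff_map_le.1 inferInstance σ) ⟨x, hx, rfl⟩
  · intro N hN hNi
    by_contra h
    push Not at h
    haveI := hN
    let σq : MulAut (G ⧸ N) := QuotientGroup.congr N N σ hNi.map_eq
    refine hext N hNi h.2 (ih _ ?_ (G ⧸ N) rfl σq ?_ ?_)
    · rw [Subgroup.card_eq_card_quotient_mul_card_subgroup N]
      exact lt_mul_of_one_lt_right Nat.card_pos ((Subgroup.one_lt_card_iff_ne_bot N).2 h.1)
    · refine MulEquiv.ext fun x => ?_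
      obtain ⟨g, rfl⟩ := QuotientGroup.mk_surjective x
      exact congrArg (QuotientGroup.mk : G → G ⧸ N) (DFunLike.congr_fun h4 g)
    · intro x hx
      obtain ⟨g, rfl⟩ := QuotientGroup.mk_surjective x
      replace hx : ((σ g : G) : G ⧸ N) = (g : G ⧸ N) := hx
      rw [QuotientGroup.eq] at hx
      have h2 := inv_mem hx
      rw [mul_inv_rev, inv_inv] at h2
      exact (QuotientGroup.eq_one_iff g).2 (CfsgLib.FpfFour.quotient_fpf σ hf N hNi g h2)

/-- A finite group with a fixed-point-free automorphism whose fourth power is trivial is solvable. -/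
theorem isSolvable_of_fpf_four {G : Type u} [Group G] [Finite G] (σ : MulAut G) (h4 : σ ^ 4 = 1)
    (hf : ∀ g, σ g = g → g = 1) : Group.IsSolvable G :=
  isSolvable_aux _ G rfl σ h4 hf

end CfsgLib.GHFour
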